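import Groth.Agent.AdicFS4.Graded
import Groth.Prelude.Def_Exal2

/-!
# Relative formal smoothness and splitting of the differentials
-/

set_option linter.style.haveILetI false
set_option maxHeartbeats 600000

open TensorProduct KaehlerDifferential

universe u

namespace Groth.Agent.AdicFS4

attribute [local instance] Exal.opModule Exal.isCentralScalar_opModule

variable {Λ A B : Type u} [CommRing Λ] [CommRing A] [CommRing B] [Algebra Λ A] [Algebra A B] [Algebra Λ B]
  [IsScalarTower Λ A B]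

theorem isAdicFormallySmooth_comp {J : Ideal B} [Algebra.FormallySmooth Λ A]
    (h : CAlgX.IsAdicFormallySmooth A B J) : CAlgX.IsAdicFormallySmooth Λ B J := by
  intro E _ _ M hM ψ hψ
  let g : A →ₐ[Λ] E := Algebra.FormallySmooth.lift M ⟨2, hM⟩ (ψ.comp (IsScalarTower.toAlgHom Λ A B))
  letI : Algebra A E := g.toRingHom.toAlgebra
  haveI : IsScalarTower Λ A E := .of_algebraMap_eq fun l => (g.commutes l).symm
  let ψ' : B →ₐ[A] E ⧸ M :=
    { ψ.toRingHom with
      commutes' := fun a => by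
        show ψ (algebraMap A B a) = Ideal.Quotient.mk M (g a)
        exact (Algebra.FormallySmooth.mk_lift M ⟨2, hM⟩ (ψ.comp (IsScalarTower.toAlgHom Λ A B)) a).symm }
  obtain ⟨χ, hχ⟩ := h E M hM ψ' hψ
  exact ⟨χ.restrictScalars Λ, AlgHom.ext fun b => AlgHom.congr_fun hχ b⟩

theorem exists_derivation_extend {J : Ideal B} (h : CAlgX.IsAdicFormallySmooth A B J)
    (P : Type u) [AddCommGroup P] [Module (B ⧸ J) P] [Module B P] [IsScalarTower B (B ⧸ J) P]
    [Module A P] [IsScalarTower A B P] [IsScalarTower A (B ⧸ J) P] [Module Λ P] [IsScalarTower Λ A P]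
    [IsScalarTower Λ B P] (δ : Derivation Λ A P) :
    ∃ D : Derivation Λ B P, ∀ a, D (algebraMap A B a) = δ a := by
  haveI : IsScalarTower Λ (B ⧸ J) P := IsScalarTower.of_algebraMap_smul fun l x => by
    rw [IsScalarTower.algebraMap_apply Λ A (B ⧸ J), algebraMap_smul, algebraMap_smul]
  let T := TrivSqZeroExt (B ⧸ J) P
  letI : Algebra A T := (Exal.Ext.derivationHom (C := B ⧸ J) δ : A →+* T).toAlgebra
  have hAT : ∀ a, algebraMap A T a = TrivSqZeroExt.inl (algebraMap A (B ⧸ J) a) + TrivSqZeroExt.inr (δ a) :=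
    fun a => rfl
  let π : T →ₐ[A] B ⧸ J :=
    { (TrivSqZeroExt.fstHom Λ (B ⧸ J) P).toRingHom with
      commutes' := fun a => by
        show TrivSqZeroExt.fst (algebraMap A T a) = _
        rw [hAT, TrivSqZeroExt.fst_add, TrivSqZeroExt.fst_inl, TrivSqZeroExt.fst_inr, add_zero] }
  have hπ : Function.Surjective π := fun c => ⟨TrivSqZeroExt.inl c, rfl⟩
  let e := Ideal.quotientKerAlgEquivOfSurjective hπ
  have hM : RingHom.ker π.toRingHom ^ 2 = ⊥ := by
    rw [eq_bot_iff, pow_two, Ideal.mul_le]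
    intro x hx y hy
    rw [Ideal.mem_bot]
    have hx' : TrivSqZeroExt.fst x = 0 := hx
    have hy' : TrivSqZeroExt.fst y = 0 := hy
    refine TrivSqZeroExt.ext (by rw [TrivSqZeroExt.fst_mul, hx', zero_mul, TrivSqZeroExt.fst_zero]) ?_
    rw [TrivSqZeroExt.snd_mul, hx', hy', op_smul_eq_smul, zero_smul, zero_smul, add_zero, TrivSqZeroExt.snd_zero]
  obtain ⟨χ, hχ⟩ := h T _ hM (e.symm.toAlgHom.comp (Ideal.Quotient.mkₐ A J)) ⟨1, fun x hx => by
    show e.symm (Ideal.Quotient.mk J x) = 0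
    rw [Ideal.Quotient.eq_zero_iff_mem.2 (by simpa using hx), map_zero]⟩
  have hfst : ∀ b, TrivSqZeroExt.fst (χ b) = Ideal.Quotient.mk J b := fun b =>
    (congrArg e (AlgHom.congr_fun hχ b)).trans (e.apply_symm_apply _)
  refine ⟨Derivation.mk'
    { toFun := fun b => TrivSqZeroExt.snd (χ b)
      map_add' := fun x y => by rw [map_add, TrivSqZeroExt.snd_add]
      map_smul' := fun l b => by
        rw [RingHom.id_apply, Algebra.smul_def, IsScalarTower.algebraMap_apply Λ A B, map_mul, AlgHom.commutes, hAT,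
          δ.map_algebraMap, TrivSqZeroExt.inr_zero, add_zero, TrivSqZeroExt.snd_mul, TrivSqZeroExt.fst_inl,
          TrivSqZeroExt.snd_inl, smul_zero, add_zero, algebraMap_smul, algebraMap_smul] }
    fun x y => ?_, fun a => ?_⟩
  · show TrivSqZeroExt.snd (χ (x * y)) = x • TrivSqZeroExt.snd (χ y) + y • TrivSqZeroExt.snd (χ x)
    rw [map_mul, TrivSqZeroExt.snd_mul, hfst, hfst, op_smul_eq_smul]
    exact congrArg₂ (· + ·) (algebraMap_smul (B ⧸ J) x _) (algebraMap_smul (B ⧸ J) y _)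
  · show TrivSqZeroExt.snd (χ (algebraMap A B a)) = δ a
    rw [AlgHom.commutes, hAT, TrivSqZeroExt.snd_add, TrivSqZeroExt.snd_inl, TrivSqZeroExt.snd_inr, zero_add]

theorem hom_ext_D {S N : Type u} [CommRing S] [Algebra A S] [AddCommGroup N] [Module S N] [Module A N]
    [IsScalarTower A S N] (f g : S ⊗[A] Ω[A⁄Λ] →ₗ[S] N)
    (h : ∀ a, f ((1 : S) ⊗ₜ[A] D Λ A a) = g ((1 : S) ⊗ₜ[A] D Λ A a)) : f = g := by
  refine AlgebraTensorModule.ext fun c ω => ?_
  rw [show c ⊗ₜ[A] ω = c • ((1 : S) ⊗ₜ[A] ω) by rw [TensorProduct.smul_tmul', smul_eq_mul, mul_one], map_smul, map_smul]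
  congr 1
  have hω : ω ∈ Submodule.span A (Set.range (D Λ A)) :=
    (KaehlerDifferential.span_range_derivation Λ A).symm ▸ Submodule.mem_top
  induction hω using Submodule.span_induction with
  | mem w hw => obtain ⟨a, rfl⟩ := hw; exact h a
  | zero => simp
  | add x y _ _ hx hy => rw [tmul_add, map_add, map_add, hx, hy]
  | smul r x _ hx => rw [tmul_smul, f.map_smul_of_tower, g.map_smul_of_tower, hx]

theorem ker_map_le {S T : Type u} [CommRing S] [CommRing T] [Algebra B S] [Algebra B T] [Algebra A S] [Algebra A T]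
    [IsScalarTower A B S] [IsScalarTower A B T] (fac : S →ₐ[B] T) (hfac : Function.Surjective fac) (J : Ideal B)
    (hker : ∀ c, fac c = 0 → c ∈ J • (⊤ : Submodule B S)) (N : Type u) [AddCommGroup N] [Module A N] :
    LinearMap.ker (AlgebraTensorModule.map fac.toLinearMap (LinearMap.id : N →ₗ[A] N)) ≤
      J • (⊤ : Submodule B (S ⊗[A] N)) := by
  intro z hz
  let K := (LinearMap.ker fac.toLinearMap).restrictScalars A
  have h1 := rTensor_exact N (f := K.subtype) (g := fac.toLinearMap.restrictScalars A)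
    (LinearMap.exact_iff.2 (by rw [Submodule.range_subtype]; rfl)) hfac
  obtain ⟨w, rfl⟩ := (h1 z).1 hz
  clear hz
  induction w using TensorProduct.induction_on with
  | zero => simp
  | add x y hx hy =>
    rw [map_add]
    exact add_mem hx hy
  | tmul c ω =>
    rw [LinearMap.rTensor_tmul, Submodule.subtype_apply]
    refine Submodule.smul_induction_on (hker c.1 c.2) (fun r hr s _ => ?_) fun x y hx hy => ?_
    · rw [← TensorProduct.smul_tmul']
      exact Submodule.smul_mem_smul hr trivial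
    · rw [TensorProduct.add_tmul]
      exact add_mem hx hy

theorem exists_derivation_fix {S T : Type u} [CommRing S] [CommRing T] [Algebra B S] [Algebra B T] [Algebra A S]
    [Algebra A T] [IsScalarTower A B S] [IsScalarTower A B T] [Algebra Λ S] [Algebra Λ T] [IsScalarTower Λ A S]
    [IsScalarTower Λ A T] [IsScalarTower Λ B S] [IsScalarTower Λ B T]
    {J : Ideal B} (hB : CAlgX.IsAdicFormallySmooth Λ B J) (k : ℕ) (hS : ∀ x ∈ J ^ k, algebraMap B S x = 0)
    (hsS : Function.Surjective (algebraMap B S)) (fac : S →ₐ[B] T) (hfac : Function.Surjective fac)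
    (hker : ∀ c, fac c = 0 → c ∈ J • (⊤ : Submodule B S))
    (D₀ : Derivation Λ B (T ⊗[A] Ω[A⁄Λ])) (hD₀ : ∀ a, D₀ (algebraMap A B a) = (1 : T) ⊗ₜ[A] D Λ A a) :
    ∃ D₂ : Derivation Λ B (S ⊗[A] Ω[A⁄Λ]), ∀ a, D₂ (algebraMap A B a) = (1 : S) ⊗ₜ[A] D Λ A a := by
  let p : S ⊗[A] Ω[A⁄Λ] →ₗ[B] T ⊗[A] Ω[A⁄Λ] := AlgebraTensorModule.map fac.toLinearMap LinearMap.id
  have hp : Function.Surjective p := fun z => by
    induction z using TensorProduct.induction_on with
    | zero => exact ⟨0, map_zero p⟩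
    | tmul t ω =>
      obtain ⟨c, rfl⟩ := hfac t
      exact ⟨c ⊗ₜ[A] ω, AlgebraTensorModule.map_tmul _ _ c ω⟩
    | add x y hx hy =>
      obtain ⟨a, rfl⟩ := hx
      obtain ⟨b, rfl⟩ := hy
      exact ⟨a + b, map_add p a b⟩
  have hkill : ∀ x ∈ J ^ k, ∀ z : S ⊗[A] Ω[A⁄Λ], x • z = 0 := fun x hx z => by
    rw [← algebraMap_smul S x z, hS x hx, zero_smul]
  obtain ⟨D₁, hD₁⟩ := exists_derivation_lift hB k hkill p hp D₀
  let l : Ω[A⁄Λ] →ₗ[A] S ⊗[A] Ω[A⁄Λ] := (D₁.compAlgebraMap A).liftKaehlerDifferential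
  have hl : ∀ a, l (D Λ A a) = D₁ (algebraMap A B a) := fun a => Derivation.liftKaehlerDifferential_comp_D _ a
  let φ : Module.End B (S ⊗[A] Ω[A⁄Λ]) := (LinearMap.liftBaseChange S l).restrictScalars B
  have hφ : ∀ a, φ ((1 : S) ⊗ₜ[A] D Λ A a) = D₁ (algebraMap A B a) := fun a => by
    show LinearMap.liftBaseChange S l _ = _
    rw [LinearMap.liftBaseChange_one_tmul, hl]
  let ν : Module.End B (S ⊗[A] Ω[A⁄Λ]) := φ - 1
  have hpν : ∀ z, p (ν z) = 0 := by
    intro z
    induction z using TensorProduct.induction_on with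
    | zero => simp
    | add x y hx hy => rw [map_add, map_add, hx, hy, add_zero]
    | tmul c ω =>
      obtain ⟨b, rfl⟩ := hsS c
      rw [show algebraMap B S b ⊗ₜ[A] ω = b • ((1 : S) ⊗ₜ[A] ω) by
        rw [TensorProduct.smul_tmul', ← Algebra.algebraMap_eq_smul_one], map_smul, map_smul]
      have hω : ω ∈ Submodule.span A (Set.range (D Λ A)) :=
        (KaehlerDifferential.span_range_derivation Λ A).symm ▸ Submodule.mem_top
      suffices h : p (ν ((1 : S) ⊗ₜ[A] ω)) = 0 by rw [h, smul_zero]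
      induction hω using Submodule.span_induction with
      | mem w hw =>
        obtain ⟨a, rfl⟩ := hw
        show p (φ ((1 : S) ⊗ₜ[A] D Λ A a) - (1 : S) ⊗ₜ[A] D Λ A a) = 0
        rw [map_sub, hφ, hD₁, hD₀]
        show (1 : T) ⊗ₜ[A] D Λ A a - fac 1 ⊗ₜ[A] D Λ A a = 0
        rw [map_one, sub_self]
      | zero => simp
      | add x y _ _ hx hy => rw [tmul_add, map_add, map_add, hx, hy, add_zero]
      | smul r x _ hx =>
        rw [tmul_smul, ← algebraMap_smul B r ((1 : S) ⊗ₜ[A] x), map_smul, map_smul, hx, smul_zero]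
  have hνk : ∀ i z, (ν ^ i) z ∈ J ^ i • (⊤ : Submodule B (S ⊗[A] Ω[A⁄Λ])) := by
    intro i
    induction i with
    | zero => simp
    | succ i ih =>
      intro z
      have h2 := Submodule.mem_map_of_mem (f := ν ^ i) (ker_map_le fac hfac J hker Ω[A⁄Λ] (hpν z))
      rw [Submodule.map_smul''] at h2
      have h3 : Submodule.map (ν ^ i) ⊤ ≤ J ^ i • (⊤ : Submodule B (S ⊗[A] Ω[A⁄Λ])) := by
        rintro _ ⟨s, -, rfl⟩; exact ih s
      rw [pow_succ (a := ν), Module.End.mul_apply, pow_succ' (a := J), Submodule.mul_smul]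
      exact Submodule.smul_mono le_rfl h3 h2
  have hnil : IsNilpotent ν := ⟨k, LinearMap.ext fun z => by
    rw [LinearMap.zero_apply]
    exact Submodule.smul_induction_on (hνk k z) (fun r hr s _ => hkill r hr s)
      fun x y hx hy => by rw [hx, hy, add_zero]⟩
  obtain ⟨v, hv⟩ := (show IsUnit φ by
    have := IsNilpotent.isUnit_add_one (R := Module.End B (S ⊗[A] Ω[A⁄Λ])) hnil
    rwa [show φ = ν + 1 from LinearMap.ext fun z => (sub_add_cancel (φ z) z).symm])
  refine ⟨(↑v⁻¹ : Module.End B (S ⊗[A] Ω[A⁄Λ])).compDer D₁, fun a => ?_⟩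
  show (↑v⁻¹ : Module.End B (S ⊗[A] Ω[A⁄Λ])) (D₁ (algebraMap A B a)) = _
  rw [← hφ, ← hv, ← Module.End.mul_apply, Units.inv_mul]
  rfl

theorem isAdicFormallySmooth_of_derivation {J : Ideal B} (hB : CAlgX.IsAdicFormallySmooth Λ B J)
    (D₀ : Derivation Λ B ((B ⧸ J) ⊗[A] Ω[A⁄Λ]))
    (hD₀ : ∀ a, D₀ (algebraMap A B a) = (1 : B ⧸ J) ⊗ₜ[A] D Λ A a) :
    CAlgX.IsAdicFormallySmooth A B J := by
  intro E _ _ M hM ψ hψ
  obtain ⟨k', hk'⟩ := hψ
  let k := k' + 1
  have hk : ∀ x ∈ J ^ k, ψ x = 0 := fun x hx => hk' x (Ideal.pow_le_pow_right (Nat.le_succ k') hx)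
  obtain ⟨D₂, hD₂⟩ := exists_derivation_fix (S := B ⧸ J ^ k) hB k (fun x hx => Ideal.Quotient.eq_zero_iff_mem.2 hx)
    Ideal.Quotient.mk_surjective (Ideal.Quotient.factorₐ B (Ideal.pow_le_self (Nat.succ_ne_zero k')))
    (Ideal.Quotient.factor_surjective (Ideal.pow_le_self (Nat.succ_ne_zero k'))) (fun c hc => by
      obtain ⟨b, rfl⟩ := Ideal.Quotient.mk_surjective c
      rw [show Ideal.Quotient.mk (J ^ k) b = b • (1 : B ⧸ J ^ k) from Algebra.algebraMap_eq_smul_one b]
      exact Submodule.smul_mem_smul (Ideal.Quotient.eq_zero_iff_mem.1 hc) trivial) D₀ hD₀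
  letI : Algebra Λ E := ((algebraMap A E).comp (algebraMap Λ A)).toAlgebra
  haveI : IsScalarTower Λ A E := .of_algebraMap_eq fun _ => rfl
  obtain ⟨u, hu⟩ := hB E M hM (ψ.restrictScalars Λ) ⟨k, hk⟩
  have hu' : ∀ b, Ideal.Quotient.mk M (u b) = ψ b := fun b => AlgHom.congr_fun hu b
  have hMM : ∀ a ∈ M, ∀ b ∈ M, a * b = 0 := fun a ha b hb => by
    rw [← Ideal.mem_bot, ← hM, pow_two]; exact Ideal.mul_mem_mul ha hb
  have hδM : ∀ a, u (algebraMap A B a) - algebraMap A E a ∈ M := fun a => by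
    rw [← Ideal.Quotient.eq_zero_iff_mem, map_sub, hu', AlgHom.commutes, Ideal.Quotient.mk_algebraMap, sub_self]
  let δ : Derivation Λ A E := Derivation.mk'
    ((u.comp (IsScalarTower.toAlgHom Λ A B)).toLinearMap - (IsScalarTower.toAlgHom Λ A E).toLinearMap) fun a b => by
      show u (algebraMap A B (a * b)) - algebraMap A E (a * b) =
        a • (u (algebraMap A B b) - algebraMap A E b) + b • (u (algebraMap A B a) - algebraMap A E a)
      rw [map_mul, map_mul, map_mul, Algebra.smul_def, Algebra.smul_def]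
      linear_combination hMM _ (hδM a) _ (hδM b)
  have hl₀ : ∀ ω, δ.liftKaehlerDifferential ω ∈ M := fun ω => by
    have hω : ω ∈ Submodule.span A (Set.range (D Λ A)) :=
      (KaehlerDifferential.span_range_derivation Λ A).symm ▸ Submodule.mem_top
    induction hω using Submodule.span_induction with
    | mem w hw => obtain ⟨a, rfl⟩ := hw; rw [Derivation.liftKaehlerDifferential_comp_D]; exact hδM a
    | zero => rw [map_zero]; exact zero_mem _
    | add x y _ _ hx hy => rw [map_add]; exact add_mem hx hy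
    | smul r x _ hx => rw [map_smul, Algebra.smul_def]; exact M.mul_mem_left _ hx
  let act₀ : B → (Ω[A⁄Λ] →ₗ[A] E) := fun b => (LinearMap.mulLeft A (u b)).comp δ.liftKaehlerDifferential
  have hact : ∀ b b', b - b' ∈ J ^ k → act₀ b = act₀ b' := fun b b' h => LinearMap.ext fun ω => by
    show u b * _ = u b' * _
    rw [← sub_eq_zero, ← sub_mul, ← map_sub]
    refine hMM _ ?_ _ (hl₀ ω)
    rw [← Ideal.Quotient.eq_zero_iff_mem, hu']
    exact hk _ h
  let act : (B ⧸ J ^ k) →ₗ[A] (Ω[A⁄Λ] →ₗ[A] E) :=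
    { toFun := fun c => Quotient.liftOn' c act₀ fun b b' h => hact b b' ((Submodule.quotientRel_def _).1 h)
      map_add' := fun c c' => by
        obtain ⟨b, rfl⟩ := Ideal.Quotient.mk_surjective c
        obtain ⟨b', rfl⟩ := Ideal.Quotient.mk_surjective c'
        show act₀ (b + b') = act₀ b + act₀ b'
        refine LinearMap.ext fun ω => ?_
        show u (b + b') * _ = u b * _ + u b' * _
        rw [map_add, add_mul]
      map_smul' := fun a c => by
        obtain ⟨b, rfl⟩ := Ideal.Quotient.mk_surjective c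
        show act₀ (a • b) = a • act₀ b
        refine LinearMap.ext fun ω => ?_
        show u (a • b) * δ.liftKaehlerDifferential ω = a • (u b * δ.liftKaehlerDifferential ω)
        rw [Algebra.smul_def, map_mul, Algebra.smul_def]
        linear_combination (hMM _ (hδM a) _ (M.mul_mem_left (u b) (hl₀ ω))) }
  let ℓ : (B ⧸ J ^ k) ⊗[A] Ω[A⁄Λ] →ₗ[A] E := TensorProduct.lift act
  have hℓ : ∀ b ω, ℓ (Ideal.Quotient.mk _ b ⊗ₜ[A] ω) = u b * δ.liftKaehlerDifferential ω := fun b ω => rfl
  have hℓM : ∀ z, ℓ z ∈ M := fun z => by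
    induction z using TensorProduct.induction_on with
    | zero => rw [map_zero]; exact zero_mem _
    | add x y hx hy => rw [map_add]; exact add_mem hx hy
    | tmul c ω => obtain ⟨b, rfl⟩ := Ideal.Quotient.mk_surjective c; rw [hℓ]; exact M.mul_mem_left _ (hl₀ ω)
  have hℓs : ∀ (b : B) z, ℓ (b • z) = u b * ℓ z := fun b z => by
    induction z using TensorProduct.induction_on with
    | zero => rw [smul_zero, map_zero, mul_zero]
    | add x y hx hy => rw [smul_add, map_add, map_add, hx, hy, mul_add]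
    | tmul c ω =>
      obtain ⟨b', rfl⟩ := Ideal.Quotient.mk_surjective c
      rw [TensorProduct.smul_tmul', show b • Ideal.Quotient.mk (J ^ k) b' = Ideal.Quotient.mk (J ^ k) (b * b') from rfl,
        hℓ, hℓ, map_mul, mul_assoc]
  refine ⟨{ toFun := fun b => u b - ℓ (D₂ b)
            map_one' := by simp
            map_mul' := fun a b => by
              rw [D₂.leibniz, map_add, hℓs, hℓs, map_mul]
              linear_combination -(hMM _ (hℓM (D₂ a)) _ (hℓM (D₂ b)))
            map_zero' := by simp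
            map_add' := fun a b => by simp only [map_add]; ring
            commutes' := fun a => by
              rw [hD₂, show (1 : B ⧸ J ^ k) = Ideal.Quotient.mk _ 1 from (map_one _).symm, hℓ, map_one, one_mul,
                Derivation.liftKaehlerDifferential_comp_D]
              show u (algebraMap A B a) - (u (algebraMap A B a) - algebraMap A E a) = _
              ring }, AlgHom.ext fun b => ?_⟩
  show Ideal.Quotient.mk M (u b - ℓ (D₂ b)) = ψ b
  rw [map_sub, hu', Ideal.Quotient.eq_zero_iff_mem.2 (hℓM _), sub_zero]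

/-- From injectivity and a projective cokernel to a splitting derivation. -/
theorem exists_derivation_of_injective {C : Type u} [CommRing C] [Algebra B C] [Algebra A C] [IsScalarTower A B C]
    [Algebra Λ C] [IsScalarTower Λ A C] [IsScalarTower Λ B C]
    (hinj : Function.Injective ((mapBaseChange Λ A B).lTensor C))
    [Module.Projective C (C ⊗[B] Ω[B⁄A])] :
    ∃ D₀ : Derivation Λ B (C ⊗[A] Ω[A⁄Λ]), ∀ a, D₀ (algebraMap A B a) = (1 : C) ⊗ₜ[A] D Λ A a := by
  let f : C ⊗[B] (B ⊗[A] Ω[A⁄Λ]) →ₗ[C] C ⊗[B] Ω[B⁄Λ] := (mapBaseChange Λ A B).baseChange C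
  let g : C ⊗[B] Ω[B⁄Λ] →ₗ[C] C ⊗[B] Ω[B⁄A] := (KaehlerDifferential.map Λ A B B).baseChange C
  have hg : Function.Surjective g := LinearMap.lTensor_surjective C (KaehlerDifferential.map_surjective Λ A B)
  have hfg : Function.Exact f g :=
    lTensor_exact C (exact_mapBaseChange_map Λ A B) (KaehlerDifferential.map_surjective Λ A B)
  obtain ⟨σ, hσ⟩ := LinearMap.exists_rightInverse_of_surjective g (LinearMap.range_eq_top.2 hg)
  have hf : Function.Injective f := hinj
  let res : C ⊗[B] Ω[B⁄Λ] →ₗ[C] LinearMap.range f :=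
    LinearMap.codRestrict _ (LinearMap.id - σ.comp g) fun z => (hfg _).1 (by
      show g (z - σ (g z)) = 0
      rw [map_sub, show g (σ (g z)) = g z from LinearMap.congr_fun hσ (g z), sub_self])
  let r : C ⊗[B] Ω[B⁄Λ] →ₗ[C] C ⊗[B] (B ⊗[A] Ω[A⁄Λ]) := (LinearEquiv.ofInjective f hf).symm.toLinearMap.comp res
  have hr : ∀ y, r (f y) = y := fun y => by
    show (LinearEquiv.ofInjective f hf).symm _ = y
    rw [LinearEquiv.symm_apply_eq]
    refine Subtype.ext ?_
    show f y - σ (g (f y)) = f y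
    rw [hfg.apply_apply_eq_zero, map_zero, sub_zero]
  let r' : C ⊗[B] Ω[B⁄Λ] →ₗ[C] C ⊗[A] Ω[A⁄Λ] :=
    (AlgebraTensorModule.cancelBaseChange A B C C Ω[A⁄Λ]).toLinearMap.comp r
  refine ⟨((r'.restrictScalars B).comp (TensorProduct.mk B C Ω[B⁄Λ] 1)).compDer (D Λ B), fun a => ?_⟩
  have h1 : f ((1 : C) ⊗ₜ[B] ((1 : B) ⊗ₜ[A] D Λ A a)) = (1 : C) ⊗ₜ[B] D Λ B (algebraMap A B a) := by
    simp [f, mapBaseChange_tmul, KaehlerDifferential.map_D]
  show AlgebraTensorModule.cancelBaseChange A B C C Ω[A⁄Λ] (r ((1 : C) ⊗ₜ[B] D Λ B (algebraMap A B a))) = _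
  rw [← h1, hr, AlgebraTensorModule.cancelBaseChange_tmul, one_smul]

theorem injective_of_derivation_extend {J : Ideal B} (h : CAlgX.IsAdicFormallySmooth A B J) :
    Function.Injective ((mapBaseChange Λ A B).lTensor (B ⧸ J)) := by
  obtain ⟨D₀, hD₀⟩ := exists_derivation_extend h ((B ⧸ J) ⊗[A] Ω[A⁄Λ])
    (((TensorProduct.mk A (B ⧸ J) Ω[A⁄Λ]) 1).compDer (D Λ A))
  let f : (B ⧸ J) ⊗[B] (B ⊗[A] Ω[A⁄Λ]) →ₗ[B ⧸ J] (B ⧸ J) ⊗[B] Ω[B⁄Λ] := (mapBaseChange Λ A B).baseChange (B ⧸ J)
  let r : (B ⧸ J) ⊗[B] Ω[B⁄Λ] →ₗ[B ⧸ J] (B ⧸ J) ⊗[A] Ω[A⁄Λ] :=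
    LinearMap.liftBaseChange (B ⧸ J) D₀.liftKaehlerDifferential
  let e := AlgebraTensorModule.cancelBaseChange A B (B ⧸ J) (B ⧸ J) Ω[A⁄Λ]
  have hkey : ∀ z, r (f z) = e z := by
    have : r.comp f = e.toLinearMap := by
      refine AlgebraTensorModule.ext fun c z => ?_
      induction z using TensorProduct.induction_on with
      | zero => simp
      | add x y hx hy => rw [tmul_add, map_add, map_add, hx, hy]
      | tmul b ω =>
        have hω : ω ∈ Submodule.span A (Set.range (D Λ A)) :=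
          (KaehlerDifferential.span_range_derivation Λ A).symm ▸ Submodule.mem_top
        induction hω using Submodule.span_induction generalizing b with
        | mem w hw =>
          obtain ⟨a, rfl⟩ := hw
          show r (c ⊗ₜ[B] mapBaseChange Λ A B (b ⊗ₜ[A] D Λ A a)) = e (c ⊗ₜ[B] (b ⊗ₜ[A] D Λ A a))
          rw [mapBaseChange_tmul, KaehlerDifferential.map_D]
          simp only [r, e, LinearMap.liftBaseChange_tmul, map_smul, Derivation.liftKaehlerDifferential_comp_D,
            hD₀, AlgebraTensorModule.cancelBaseChange_tmul]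
          show c • (b • ((1 : B ⧸ J) ⊗ₜ[A] D Λ A a)) = (b • c) ⊗ₜ[A] D Λ A a
          rw [smul_comm, TensorProduct.smul_tmul' c, smul_eq_mul, mul_one, TensorProduct.smul_tmul']
        | zero => simp
        | add x y _ _ hx hy => rw [tmul_add b, tmul_add, map_add, map_add, hx, hy]
        | smul t x _ hx => rw [← smul_tmul, hx]
    exact LinearMap.congr_fun this
  intro x y hxy
  refine e.injective ?_
  rw [← hkey, ← hkey]
  exact congrArg r hxy

end Groth.Agent.AdicFS4
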