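import Groth.Agent.AdicFS4.GradedConv
import Groth.Agent.AdicFS4.Rel
import Groth.Agent.RegFS6.Deriv

/-!
# The graded criterion for local algebras over a field
-/

set_option linter.style.haveILetI false

open TensorProduct IsLocalRing

universe u

namespace Groth.Agent.AdicFS4

/-- A derivation vanishing on `P` is `P`-linear. -/
theorem exists_derivation_of_kills {P R M : Type u} [CommRing P] [CommRing R] [Algebra P R] [AddCommGroup M]
    [Module R M] [Module P M] [IsScalarTower P R M] (D : Derivation ℤ R M) (h : ∀ x, D (algebraMap P R x) = 0) :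
    ∃ D' : Derivation P R M, ∀ r, D' r = D r :=
  ⟨Derivation.mk'
    { toFun := D
      map_add' := fun a b => map_add D a b
      map_smul' := fun x r => by
        rw [RingHom.id_apply, Algebra.smul_def, D.leibniz, h, smul_zero, add_zero, algebraMap_smul] }
    fun a b => D.leibniz a b, fun _ => rfl⟩

theorem isAdicFormallySmooth_of_symGr_field (P : Type u) [Field P] [PerfectField P] {k A : Type u} [Field k]
    [CommRing A] [IsLocalRing A] [Algebra k A] [Algebra P k]
    (hP : ∀ (M : Type u) [AddCommGroup M] [Module A M] (D : Derivation ℤ A M) (x : P),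
      D (algebraMap k A (algebraMap P k x)) = 0)
    (hgr : PP16.SymGrBijective A (maximalIdeal A))
    (hinj : Function.Injective ((KaehlerDifferential.mapBaseChange ℤ k A).lTensor (ResidueField A))) :
    CAlgX.IsAdicFormallySmooth k A (maximalIdeal A) := by
  letI : Algebra P A := ((algebraMap k A).comp (algebraMap P k)).toAlgebra
  haveI : IsScalarTower P k A := IsScalarTower.of_algebraMap_eq fun _ => rfl
  haveI : Algebra.FormallySmooth P (A ⧸ maximalIdeal A) :=
    CoeffField.formallySmooth_of_perfectField P (ResidueField A)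
  haveI : Module.Projective (A ⧸ maximalIdeal A) (maximalIdeal A).Cotangent :=
    haveI : Module.Free (ResidueField A) (CotangentSpace A) := inferInstance
    Module.Projective.of_free (R := ResidueField A) (P := CotangentSpace A)
  let K := ResidueField A
  let V := K ⊗[k] Ω[k⁄P]
  let δ : Derivation ℤ k V := (((TensorProduct.mk k K Ω[k⁄P]) 1).compDer (KaehlerDifferential.D P k)).restrictScalars ℤ
  let f := KaehlerDifferential.mapBaseChange ℤ k A
  let l : ResidueField A ⊗[A] (A ⊗[k] Ω[k⁄ℤ]) →ₗ[ResidueField A] V :=
    LinearMap.liftBaseChange (ResidueField A) (LinearMap.liftBaseChange A δ.liftKaehlerDifferential)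
  obtain ⟨r, hr⟩ := LinearMap.exists_leftInverse_of_injective (f.baseChange (ResidueField A))
    (LinearMap.ker_eq_bot.2 hinj)
  let D : Derivation ℤ A V :=
    (((l.comp r).restrictScalars A).comp (TensorProduct.mk A (ResidueField A) (Ω[A⁄ℤ]) 1)).compDer
      (KaehlerDifferential.D ℤ A)
  have hD : ∀ c, D (algebraMap k A c) = (1 : K) ⊗ₜ[k] KaehlerDifferential.D P k c := fun c => by
    show l (r ((1 : ResidueField A) ⊗ₜ KaehlerDifferential.D ℤ A (algebraMap k A c))) = _
    have h1 : (1 : ResidueField A) ⊗ₜ[A] KaehlerDifferential.D ℤ A (algebraMap k A c) =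
        f.baseChange (ResidueField A) ((1 : ResidueField A) ⊗ₜ[A] ((1 : A) ⊗ₜ[k] KaehlerDifferential.D ℤ k c)) := by
      simp [f]
    rw [h1, ← LinearMap.comp_apply r, hr]
    simp [l, δ]
  obtain ⟨D', hD'⟩ := exists_derivation_of_kills D fun x => hP V D x
  exact isAdicFormallySmooth_of_derivation (isAdicFormallySmooth_of_symGr hgr) D'
    fun c => (hD' _).trans (hD c)

theorem symGr_of_isAdicFormallySmooth_field (P : Type u) [Field P] [PerfectField P] {k A : Type u} [Field k]
    [CommRing A] [IsLocalRing A] [Algebra k A] [Algebra P k]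
    (h : CAlgX.IsAdicFormallySmooth k A (maximalIdeal A)) : PP16.SymGrBijective A (maximalIdeal A) := by
  letI : Algebra P A := ((algebraMap k A).comp (algebraMap P k)).toAlgebra
  haveI : IsScalarTower P k A := IsScalarTower.of_algebraMap_eq fun _ => rfl
  haveI : Algebra.FormallySmooth P (A ⧸ maximalIdeal A) :=
    CoeffField.formallySmooth_of_perfectField P (ResidueField A)
  haveI : Algebra.FormallySmooth P k := CoeffField.formallySmooth_of_perfectField P k
  exact symGrBijective_of_isAdicFormallySmooth (A := P) (isAdicFormallySmooth_comp (Λ := P) h)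

/-- The criterion. -/
theorem isAdicFormallySmooth_field_iff {k A : Type u} [Field k] [CommRing A] [IsLocalRing A] [Algebra k A] :
    CAlgX.IsAdicFormallySmooth k A (maximalIdeal A) ↔
      (PP16.SymGrBijective A (maximalIdeal A) ∧
        Function.Injective ((KaehlerDifferential.mapBaseChange ℤ k A).lTensor (ResidueField A))) := by
  rcases CharP.exists' k with h0 | ⟨p, hp, hk⟩
  · let P := ULift.{u} ℚ
    letI : Algebra P k := ((algebraMap ℚ k).comp (ULift.ringEquiv (R := ℚ)).toRingHom).toAlgebra
    haveI : CharZero P := charZero_of_injective_ringHom (ULift.ringEquiv (R := ℚ)).symm.toRingHom.injective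
    refine ⟨fun h => ⟨symGr_of_isAdicFormallySmooth_field P h, RegFS6.injective_lTensor_of_fs h⟩,
      fun h => isAdicFormallySmooth_of_symGr_field P (fun M _ _ D x => ?_) h.1 h.2⟩
    have key : ((x.down.den : ℕ) : A) * algebraMap k A (algebraMap P k x) = ((x.down.num : ℤ) : A) := by
      rw [← map_natCast (algebraMap k A), ← map_mul, ← map_intCast (algebraMap k A)]
      congr 1
      show ((x.down.den : ℕ) : k) * algebraMap ℚ k x.down = _
      rw [← map_natCast (algebraMap ℚ k), ← map_mul, mul_comm, Rat.mul_den_eq_num, map_intCast]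
    have h1 := congrArg D key
    rw [D.leibniz, D.map_natCast, smul_zero, add_zero, D.map_intCast] at h1
    have hu : IsUnit ((x.down.den : ℕ) : A) := by
      rw [← map_natCast (algebraMap k A)]
      exact (Ne.isUnit (Nat.cast_ne_zero.2 x.down.den_nz)).map _
    exact (IsUnit.smul_eq_zero hu).1 h1
  · haveI := hp
    let P := ULift.{u} (ZMod p)
    haveI : Finite P := Finite.of_equiv _ Equiv.ulift.symm
    haveI : PerfectField P := PerfectField.ofFinite
    letI : Algebra P k := ((ZMod.castHom dvd_rfl k).comp (ULift.ringEquiv (R := ZMod p)).toRingHom).toAlgebra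
    refine ⟨fun h => ⟨symGr_of_isAdicFormallySmooth_field P h, RegFS6.injective_lTensor_of_fs h⟩,
      fun h => isAdicFormallySmooth_of_symGr_field P (fun M _ _ D x => ?_) h.1 h.2⟩
    obtain ⟨n, hn⟩ := ZMod.natCast_zmod_surjective (n := p) x.down
    have : algebraMap P k x = (n : k) := by
      show ZMod.castHom dvd_rfl k x.down = _
      rw [← hn, map_natCast]
    rw [this, map_natCast, D.map_natCast]

end Groth.Agent.AdicFS4
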