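import Groth.Agent.AdicFS4.Split
import Groth.Agent.EGA41Lib.Adic
import Groth.Agent.PPLib.Graded
import Groth.Prelude.Def_PP16

/-!
# Formal smoothness for an adic topology with smooth quotient: the graded criterion
-/

set_option linter.style.haveILetI false

open TensorProduct MvPolynomial PP16 Groth.Agent.PPLib

universe u

namespace Groth.Agent.AdicFS4

variable {A B : Type u} [CommRing A] [CommRing B] [Algebra A B] {J : Ideal B}

/-- The quotient map `B/J^(n+1) → B/J`. -/
noncomputable def red (J : Ideal B) (n : ℕ) : (B ⧸ J ^ (n + 1)) →ₐ[A] B ⧸ J :=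
  Ideal.Quotient.factorₐ A (Ideal.pow_le_self (Nat.succ_ne_zero n))

theorem red_mk (n : ℕ) (b : B) : red (A := A) J n (Ideal.Quotient.mk _ b) = Ideal.Quotient.mk J b := rfl

theorem ker_red_le (n : ℕ) :
    RingHom.ker (red (A := A) J n : (B ⧸ J ^ (n + 1)) →+* B ⧸ J) ≤ J.map (Ideal.Quotient.mk _) := by
  intro x hx
  obtain ⟨b, rfl⟩ := Ideal.Quotient.mk_surjective x
  exact Ideal.mem_map_of_mem _ (Ideal.Quotient.eq_zero_iff_mem.1 hx)

theorem exists_section (A : Type u) [CommRing A] [Algebra A B] [Algebra.FormallySmooth A (B ⧸ J)] (n : ℕ) :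
    ∃ s : (B ⧸ J) →ₐ[A] B ⧸ J ^ (n + 1), ∀ c, red (A := A) J n (s c) = c := by
  have hs : Function.Surjective (red (A := A) J n) :=
    Ideal.Quotient.factor_surjective (Ideal.pow_le_self (Nat.succ_ne_zero n))
  have hnil : IsNilpotent (RingHom.ker (red (A := A) J n : (B ⧸ J ^ (n + 1)) →+* B ⧸ J)) := by
    refine ⟨n + 1, le_bot_iff.1 ((Ideal.pow_right_mono (ker_red_le n) _).trans ?_)⟩
    rw [← Ideal.map_pow, Ideal.map_quotient_self]
  exact ⟨Algebra.FormallySmooth.liftOfSurjective (AlgHom.id A _) (red J n) hs hnil,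
    fun c => Algebra.FormallySmooth.liftOfSurjective_apply _ _ _ _ c⟩

theorem exists_cotangent_derivation [Algebra.FormallySmooth A (B ⧸ J)] :
    ∃ D : Derivation A B J.Cotangent, ∀ x : J, D x = J.toCotangent x := by
  obtain ⟨s, hs⟩ := exists_section (J := J) A 1
  let m : B →ₐ[A] B ⧸ J ^ (1 + 1) := Ideal.Quotient.mkₐ A _
  let χ : B →ₐ[A] B ⧸ J ^ (1 + 1) := s.comp (Ideal.Quotient.mkₐ A J)
  have key : ∀ b, ∃ x : J, m b - χ b = m x := fun b => by
    obtain ⟨t, ht⟩ := Ideal.Quotient.mk_surjective (m b - χ b)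
    refine ⟨⟨t, ?_⟩, ht.symm⟩
    rw [← Ideal.Quotient.eq_zero_iff_mem, ← red_mk (A := A) 1, ht, map_sub]
    show red J 1 (Ideal.Quotient.mk _ b) - red J 1 (s (Ideal.Quotient.mk J b)) = 0
    rw [red_mk, hs, sub_self]
  choose d hd using key
  have huniq : ∀ (b : B) (x : J), m b - χ b = m x → J.toCotangent (d b) = J.toCotangent x := fun b x hx => by
    rw [Ideal.toCotangent_eq]
    exact Ideal.Quotient.eq.1 ((hd b).symm.trans hx)
  refine ⟨Derivation.mk'
    { toFun := fun b => J.toCotangent (d b)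
      map_add' := fun a b => (huniq (a + b) (d a + d b) (by
        rw [Submodule.coe_add, map_add, map_add, map_add, ← hd, ← hd]; ring)).trans (map_add _ _ _)
      map_smul' := fun r b => (huniq (r • b) (algebraMap A B r • d b) (by
        rw [Submodule.coe_smul, smul_eq_mul, map_mul, ← hd, Algebra.smul_def, map_mul, map_mul,
          AlgHom.commutes, AlgHom.commutes, mul_sub])).trans (by
          rw [map_smul, RingHom.id_apply, algebraMap_smul]) }
    fun a b => ?_, fun x => ?_⟩
  · refine (huniq (a * b) (a • d b + b • d a) ?_).trans ?_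
    · have h0 : m (d a) * m (d b) = 0 := by
        rw [← map_mul]
        refine Ideal.Quotient.eq_zero_iff_mem.2 ?_
        rw [pow_succ, pow_one]
        exact Ideal.mul_mem_mul (d a).2 (d b).2
      simp only [Submodule.coe_add, Submodule.coe_smul, smul_eq_mul, map_add, map_mul, ← hd] at h0 ⊢
      linear_combination -h0
    · rw [map_add, map_smul, map_smul]
      rfl
  · refine huniq x x ?_
    show m x - s (Ideal.Quotient.mk J x) = m x
    rw [Ideal.Quotient.eq_zero_iff_mem.2 x.2, map_zero, sub_zero]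

theorem projective_tensor_kaehler (hB : CAlgX.IsAdicFormallySmooth A B J) :
    Module.Projective (B ⧸ J) ((B ⧸ J) ⊗[B] Ω[B⁄A]) := by
  refine Module.Projective.of_lifting_property fun {M N} _ _ _ _ p h hp => ?_
  letI : Module B M := Module.compHom M (Ideal.Quotient.mk J)
  letI : Module B N := Module.compHom N (Ideal.Quotient.mk J)
  letI : Module A M := Module.compHom M (algebraMap A B)
  letI : Module A N := Module.compHom N (algebraMap A B)
  haveI : IsScalarTower A B M := IsScalarTower.of_algebraMap_smul fun _ _ => rfl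
  haveI : IsScalarTower A B N := IsScalarTower.of_algebraMap_smul fun _ _ => rfl
  haveI : IsScalarTower B (B ⧸ J) M := IsScalarTower.of_algebraMap_smul fun _ _ => rfl
  haveI : IsScalarTower B (B ⧸ J) N := IsScalarTower.of_algebraMap_smul fun _ _ => rfl
  let hB' : Ω[B⁄A] →ₗ[B] N := (h.restrictScalars B).comp (TensorProduct.mk B (B ⧸ J) Ω[B⁄A] 1)
  obtain ⟨D', hD'⟩ := exists_derivation_lift hB 1 (fun x hx (t : M) => by
      show Ideal.Quotient.mk J x • t = 0
      rw [Ideal.Quotient.eq_zero_iff_mem.2 (by simpa using hx), zero_smul])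
    (p.restrictScalars B) hp (hB'.compDer (KaehlerDifferential.D A B))
  refine ⟨LinearMap.liftBaseChange (B ⧸ J) D'.liftKaehlerDifferential, ?_⟩
  have h1 : (p.restrictScalars B).comp D'.liftKaehlerDifferential = hB' :=
    Derivation.liftKaehlerDifferential_unique _ _ (Derivation.ext fun b => by
      show p (D'.liftKaehlerDifferential (KaehlerDifferential.D A B b)) = hB' (KaehlerDifferential.D A B b)
      rw [Derivation.liftKaehlerDifferential_comp_D]
      exact hD' b)
  refine AlgebraTensorModule.ext fun c ω => ?_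
  rw [LinearMap.comp_apply, LinearMap.liftBaseChange_tmul, map_smul]
  show c • ((p.restrictScalars B).comp D'.liftKaehlerDifferential) ω = _
  rw [h1]
  show c • h ((1 : B ⧸ J) ⊗ₜ ω) = _
  rw [← map_smul, smul_tmul', smul_eq_mul, mul_one]

theorem projective_cotangent [Algebra.FormallySmooth A (B ⧸ J)] (hB : CAlgX.IsAdicFormallySmooth A B J) :
    Module.Projective (B ⧸ J) J.Cotangent := by
  haveI := projective_tensor_kaehler hB
  obtain ⟨D, hD⟩ := exists_cotangent_derivation (A := A) (J := J)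
  let r : (B ⧸ J) ⊗[B] Ω[B⁄A] →ₗ[B ⧸ J] J.Cotangent := LinearMap.liftBaseChange (B ⧸ J) D.liftKaehlerDifferential
  let k : J →ₗ[B] (B ⧸ J) ⊗[B] Ω[B⁄A] :=
    { toFun := fun x => (1 : B ⧸ J) ⊗ₜ[B] KaehlerDifferential.D A B x
      map_add' := fun x y => by simp [tmul_add]
      map_smul' := fun b x => by
        rw [Submodule.coe_smul, smul_eq_mul, Derivation.leibniz, tmul_add, tmul_smul,
          ← TensorProduct.smul_tmul (x : B), ← Algebra.algebraMap_eq_smul_one, Ideal.Quotient.algebraMap_eq,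
          Ideal.Quotient.eq_zero_iff_mem.2 x.2, zero_tmul, add_zero, RingHom.id_apply] }
  let k' : J.Cotangent →ₗ[B] (B ⧸ J) ⊗[B] Ω[B⁄A] := Submodule.liftQ _ k (by
    rw [Submodule.smul_le]
    intro a ha x _
    show k (a • x) = 0
    rw [map_smul, ← algebraMap_smul (B ⧸ J) a, Ideal.Quotient.algebraMap_eq, Ideal.Quotient.eq_zero_iff_mem.2 ha,
      zero_smul])
  refine Module.Projective.of_split (k'.extendScalarsOfSurjective Ideal.Quotient.mk_surjective) r ?_
  refine LinearMap.ext fun t => ?_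
  obtain ⟨x, rfl⟩ := J.toCotangent_surjective t
  show r ((1 : B ⧸ J) ⊗ₜ[B] KaehlerDifferential.D A B x) = J.toCotangent x
  rw [LinearMap.liftBaseChange_one_tmul, Derivation.liftKaehlerDifferential_comp_D, hD]

/-- The zeta map as a multilinear map. -/
theorem exists_gr_map (J : Ideal B) (ι : Type u) [Fintype ι] :
    ∃ φ : SymmetricPower B ι J.Cotangent →ₗ[B] grJ B J (Fintype.card ι),
      (∀ x : ι → ↥J, φ (SymmetricPower.tprod B (fun i => J.toCotangent (x i))) = zetaJ B J x) ∧
        Function.Surjective φ := by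
  classical
  let rep : J.Cotangent → J := Function.surjInv J.toCotangent_surjective
  have hrep : ∀ t, J.toCotangent (rep t) = t := Function.surjInv_eq _
  have hwd : ∀ x y : ι → J, (∀ i, J.toCotangent (x i) = J.toCotangent (y i)) → zetaJ B J x = zetaJ B J y := by
    intro x y h
    rw [zetaJ, zetaJ, Submodule.Quotient.eq]
    show (∏ i, (x i : B)) - ∏ i, (y i : B) ∈ J ^ (Fintype.card ι + 1)
    simpa using prod_sub_prod_mem (fun i => J.toCotangent_eq.1 (h i)) (fun i => (y i).2) Finset.univ
  let f : MultilinearMap B (fun _ : ι => J.Cotangent) (grJ B J (Fintype.card ι)) :=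
    { toFun := fun v => zetaJ B J (fun i => rep (v i))
      map_update_add' := by
        intro hdec v i a b
        rw [hwd (fun j => rep (Function.update v i (a + b) j)) (Function.update (fun j => rep (v j)) i (rep a + rep b))
            (fun j => by by_cases h : j = i <;> simp [h, hrep]),
          hwd (fun j => rep (Function.update v i a j)) (Function.update (fun j => rep (v j)) i (rep a))
            (fun j => by by_cases h : j = i <;> simp [h, hrep]),
          hwd (fun j => rep (Function.update v i b j)) (Function.update (fun j => rep (v j)) i (rep b))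
            (fun j => by by_cases h : j = i <;> simp [h, hrep])]
        simp only [zetaJ, ← Submodule.Quotient.mk_add]
        congr 1
        refine Subtype.ext ?_
        show (∏ j, _) = (∏ j, _) + ∏ j, _
        simp only [Function.apply_update (fun _ (z : J) => (z : B)), Submodule.coe_add,
          Finset.prod_update_of_mem (Finset.mem_univ i)]
        ring
      map_update_smul' := by
        intro hdec v i c a
        rw [hwd (fun j => rep (Function.update v i (c • a) j)) (Function.update (fun j => rep (v j)) i (c • rep a))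
            (fun j => by by_cases h : j = i <;> simp [h, hrep]),
          hwd (fun j => rep (Function.update v i a j)) (Function.update (fun j => rep (v j)) i (rep a))
            (fun j => by by_cases h : j = i <;> simp [h, hrep])]
        simp only [zetaJ, ← Submodule.Quotient.mk_smul]
        congr 1
        refine Subtype.ext ?_
        show (∏ j, _) = c • ∏ j, _
        simp only [Function.apply_update (fun _ (z : J) => (z : B)), Submodule.coe_smul,
          Finset.prod_update_of_mem (Finset.mem_univ i), smul_eq_mul, mul_assoc] }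
  have hf : ∀ (e : Equiv.Perm ι) (v : ι → J.Cotangent), f (v ∘ e) = f v := fun e v => by
    show zetaJ B J (fun i => rep (v (e i))) = zetaJ B J (fun i => rep (v i))
    simp only [zetaJ]
    congr 1
    exact Subtype.ext (Equiv.prod_comp e fun i => (rep (v i) : B))
  have htp : ∀ x : ι → ↥J, symLift f hf (SymmetricPower.tprod B (fun i => J.toCotangent (x i))) = zetaJ B J x :=
    fun x => by rw [symLift_tprod]; exact hwd _ _ fun i => hrep _
  refine ⟨symLift f hf, htp, fun t => ?_⟩
  obtain ⟨⟨z, hz⟩, rfl⟩ := Submodule.Quotient.mk_surjective _ t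
  have hz' : z ∈ Submodule.span B {w : B | ∃ x : ι → J, ∏ i, (x i : B) = w} := by
    refine (show J ^ Fintype.card ι ≤ _ from ?_) hz
    nth_rewrite 1 [← Submodule.span_eq J]
    rw [Submodule.span_pow, Submodule.span_le]
    intro w hw
    obtain ⟨g, rfl⟩ := Set.mem_pow.1 hw
    refine Submodule.subset_span ⟨fun i => ⟨(g (Fintype.equivFin ι i) : B), (g _).2⟩, ?_⟩
    rw [List.prod_ofFn, ← (Fintype.equivFin ι).prod_comp]
  suffices h : ∀ w ∈ Submodule.span B {w : B | ∃ x : ι → J, ∏ i, (x i : B) = w},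
      ∃ (hw : w ∈ J ^ Fintype.card ι) (v : SymmetricPower B ι J.Cotangent),
        symLift f hf v = Submodule.Quotient.mk ⟨w, hw⟩ by
    obtain ⟨_, v, hv⟩ := h z hz'
    exact ⟨v, hv⟩
  intro w hw
  induction hw using Submodule.span_induction with
  | mem w hw => obtain ⟨x, rfl⟩ := hw; exact ⟨_, _, htp x⟩
  | zero => exact ⟨zero_mem _, 0, by rw [map_zero]; rfl⟩
  | add a b _ _ ha hb =>
    obtain ⟨ha, u, hu⟩ := ha
    obtain ⟨hb, v, hv⟩ := hb
    exact ⟨add_mem ha hb, u + v, by rw [map_add, hu, hv]; rfl⟩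
  | smul c a _ ha =>
    obtain ⟨ha, u, hu⟩ := ha
    exact ⟨Submodule.smul_mem _ c ha, c • u, by rw [map_smul, hu]; rfl⟩

theorem smul_tprod_eq_zero {ι : Type u} [Fintype ι] [Nonempty ι] {a : B} (ha : a ∈ J)
    (t : SymmetricPower B ι J.Cotangent) : a • t = 0 := by
  classical
  have h : (a • LinearMap.id : SymmetricPower B ι J.Cotangent →ₗ[B] _) = 0 := by
    refine sym_ext fun x => ?_
    let i := Classical.arbitrary ι
    show a • SymmetricPower.tprod B x = 0
    rw [← Function.update_eq_self i x, ← MultilinearMap.map_update_smul, Ideal.Cotangent.smul_eq_zero_of_mem ha,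
      MultilinearMap.map_update_zero]
  exact LinearMap.congr_fun h t

theorem sub_mem_pow_of_lift {R : Type u} [CommRing R] [Algebra A R] [Algebra B R] [IsScalarTower A B R]
    (hB : CAlgX.IsAdicFormallySmooth A B J) (hR : ∀ x ∈ J, algebraMap B R x = 0) (D : Derivation A B J.Cotangent)
    (hD : ∀ x : J, D x = J.toCotangent x) (𝔪 : Ideal R) (L : J.Cotangent →ₗ[B] R) (hL : ∀ v, L v ∈ 𝔪) (n : ℕ) :
    ∃ χ : B →ₐ[A] R ⧸ 𝔪 ^ (n + 1), (∀ b, χ b - Ideal.Quotient.mk _ (algebraMap B R b) ∈
        𝔪.map (Ideal.Quotient.mk (𝔪 ^ (n + 1)))) ∧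
      ∀ x : J, χ x - Ideal.Quotient.mk _ (L (J.toCotangent x)) ∈ (𝔪 ^ 2).map (Ideal.Quotient.mk (𝔪 ^ (n + 1))) := by
  let q : R →ₐ[A] R ⧸ 𝔪 ^ (n + 1) := Ideal.Quotient.mkₐ A _
  let 𝔫 : Ideal (R ⧸ 𝔪 ^ (n + 1)) := (𝔪 ^ 2).map (Ideal.Quotient.mk (𝔪 ^ (n + 1)))
  let μ : R →ₐ[A] (R ⧸ 𝔪 ^ (n + 1)) ⧸ 𝔫 := (Ideal.Quotient.mkₐ A 𝔫).comp q
  have hμsq : ∀ a b, a ∈ 𝔪 → b ∈ 𝔪 → μ (a * b) = 0 := fun a b ha hb =>
    Ideal.Quotient.eq_zero_iff_mem.2 (Ideal.mem_map_of_mem _ (by rw [pow_two]; exact Ideal.mul_mem_mul ha hb))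
  let u : B →ₐ[A] (R ⧸ 𝔪 ^ (n + 1)) ⧸ 𝔫 :=
    { toFun := fun b => μ (algebraMap B R b + L (D b))
      map_one' := by simp
      map_mul' := fun a b => by
        have h := hμsq _ _ (hL (D a)) (hL (D b))
        rw [← map_mul μ, Derivation.leibniz, map_add L, map_smul, map_smul, Algebra.smul_def, Algebra.smul_def,
          map_mul (algebraMap B R)]
        simp only [map_add, map_mul] at h ⊢
        linear_combination -h
      map_zero' := by simp
      map_add' := fun a b => by simp only [map_add]; abel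
      commutes' := fun a => by
        rw [D.map_algebraMap, map_zero, add_zero, ← IsScalarTower.algebraMap_apply A B R]
        exact μ.commutes a }
  have hu : ∀ b, u b = μ (algebraMap B R b + L (D b)) := fun _ => rfl
  have hux : ∀ x : J, u x = μ (L (J.toCotangent x)) := fun x => by
    rw [hu, hR x x.2, zero_add, hD]
  have hnil : IsNilpotent 𝔫 := ⟨n + 1, le_bot_iff.1 (by
    show ((𝔪 ^ 2).map (Ideal.Quotient.mk (𝔪 ^ (n + 1)))) ^ (n + 1) ≤ ⊥
    rw [← Ideal.map_pow, ← pow_mul, ← Ideal.map_quotient_self (𝔪 ^ (n + 1))]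
    exact Ideal.map_mono (Ideal.pow_le_pow_right (by omega)))⟩
  obtain ⟨χ, hχ⟩ := EGA41Lib.lift_of_isAdicFormallySmooth hB 𝔫 hnil u ⟨2, fun x hx => by
    rw [pow_two] at hx
    refine Submodule.mul_induction_on hx (fun a ha b hb => ?_) fun a b ha hb => by rw [map_add, ha, hb, add_zero]
    rw [map_mul, hux ⟨a, ha⟩, hux ⟨b, hb⟩, ← map_mul]
    exact hμsq _ _ (hL _) (hL _)⟩
  have hχ' : ∀ b, χ b - q (algebraMap B R b + L (D b)) ∈ 𝔫 := fun b =>
    Ideal.Quotient.eq.1 (AlgHom.congr_fun hχ b)
  refine ⟨χ, fun b => ?_, fun x => ?_⟩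
  · have h := hχ' b
    rw [map_add] at h
    have h2 : q (L (D b)) ∈ 𝔪.map (Ideal.Quotient.mk (𝔪 ^ (n + 1))) := Ideal.mem_map_of_mem _ (hL _)
    have h3 := add_mem (Ideal.map_mono (Ideal.pow_le_self two_ne_zero) h) h2
    convert h3 using 1
    show χ b - q (algebraMap B R b) = _
    ring
  · have h := hχ' x
    rwa [hR x x.2, zero_add, hD] at h

theorem mem_pow_of_gr_eq_zero {R : Type u} [CommRing R] [Algebra A R] [Algebra B R] [IsScalarTower A B R]
    (𝔪 : Ideal R) (L : J.Cotangent →ₗ[B] R) (hL : ∀ v, L v ∈ 𝔪) {ι : Type u} [Fintype ι]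
    (φ : SymmetricPower B ι J.Cotangent →ₗ[B] grJ B J (Fintype.card ι))
    (hφ : ∀ x : ι → ↥J, φ (SymmetricPower.tprod B (fun i => J.toCotangent (x i))) = zetaJ B J x)
    (p : SymmetricPower B ι J.Cotangent →ₗ[B] R)
    (hp : ∀ x : ι → J.Cotangent, p (SymmetricPower.tprod B x) = ∏ i, L (x i))
    (χ : B →ₐ[A] R ⧸ 𝔪 ^ (Fintype.card ι + 1))
    (h1 : ∀ b, χ b - Ideal.Quotient.mk _ (algebraMap B R b) ∈ 𝔪.map (Ideal.Quotient.mk (𝔪 ^ (Fintype.card ι + 1))))
    (h2 : ∀ x : J, χ x - Ideal.Quotient.mk _ (L (J.toCotangent x)) ∈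
      (𝔪 ^ 2).map (Ideal.Quotient.mk (𝔪 ^ (Fintype.card ι + 1))))
    (y : SymmetricPower B ι J.Cotangent) (hy : φ y = 0) : p y ∈ 𝔪 ^ (Fintype.card ι + 1) := by
  let n := Fintype.card ι
  let 𝔪' := 𝔪.map (Ideal.Quotient.mk (𝔪 ^ (n + 1)))
  have hJ : ∀ x ∈ J, χ x ∈ 𝔪' := fun x hx => by
    have h := add_mem (Ideal.map_mono (Ideal.pow_le_self two_ne_zero) (h2 ⟨x, hx⟩))
      (Ideal.mem_map_of_mem (Ideal.Quotient.mk (𝔪 ^ (n + 1))) (hL (J.toCotangent ⟨x, hx⟩)))
    rwa [sub_add_cancel] at h
  have hpow : ∀ k, ∀ x ∈ J ^ k, χ x ∈ 𝔪' ^ k := EGA41Lib.mem_pow_of_forall_mem χ hJ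
  have hzero : 𝔪' ^ (n + 1) = ⊥ := by rw [← Ideal.map_pow, Ideal.map_quotient_self]
  have key : ∀ w, ∃ z : ↥(J ^ n), φ w = Submodule.Quotient.mk z ∧ χ (z : B) = Ideal.Quotient.mk _ (p w) := fun w => by
    have hw : w ∈ Submodule.span B (Set.range (SymmetricPower.tprod B (ι := ι) (M := J.Cotangent))) :=
      SymmetricPower.span_tprod_eq_top B ι J.Cotangent ▸ Submodule.mem_top
    induction hw using Submodule.span_induction with
    | mem w hw =>
      obtain ⟨v, rfl⟩ := hw
      choose x hx using fun i => J.toCotangent_surjective (v i)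
      obtain rfl : v = fun i => J.toCotangent (x i) := funext fun i => (hx i).symm
      refine ⟨⟨∏ i, (x i : B), by simpa [n] using PP16.prod_mem_pow J Finset.univ (fun i => (x i : B)) fun i _ => (x i).2⟩,
        hφ x, ?_⟩
      rw [hp]
      show χ (∏ i, (x i : B)) = _
      rw [map_prod, map_prod, ← sub_eq_zero, ← Ideal.mem_bot, ← hzero]
      have h := prod_sub_prod_mem (J := 𝔪') (x := fun i => χ (x i : B))
        (y := fun i => Ideal.Quotient.mk _ (L (J.toCotangent (x i))))
        (fun i => by rw [← Ideal.map_pow]; exact h2 (x i)) (fun i => Ideal.mem_map_of_mem _ (hL _)) Finset.univ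
      simpa [n] using h
    | zero => exact ⟨0, by rw [map_zero]; rfl, by rw [map_zero, map_zero, Submodule.coe_zero, map_zero]⟩
    | add a b _ _ ha hb =>
      obtain ⟨za, ha1, ha2⟩ := ha
      obtain ⟨zb, hb1, hb2⟩ := hb
      exact ⟨za + zb, by rw [map_add, ha1, hb1]; rfl, by rw [map_add, map_add, Submodule.coe_add, map_add, ha2, hb2]⟩
    | smul c a _ ha =>
      obtain ⟨z, hz1, hz2⟩ := ha
      refine ⟨c • z, by rw [map_smul, hz1]; rfl, ?_⟩
      rw [map_smul, Algebra.smul_def, map_mul, ← hz2, Submodule.coe_smul, smul_eq_mul, map_mul, ← sub_eq_zero,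
        ← sub_mul, ← Ideal.mem_bot, ← hzero]
      exact (pow_succ' 𝔪' n) ▸ Ideal.mul_mem_mul (h1 c) (hpow n _ z.2)
  obtain ⟨z, hz1, hz2⟩ := key y
  have hz : (z : B) ∈ J ^ (n + 1) := (Submodule.Quotient.mk_eq_zero (Submodule.comap (J ^ n).subtype (J ^ (n + 1)))).1 (hz1.symm.trans hy)
  have h := hpow _ _ hz
  rw [hzero, Ideal.mem_bot, hz2, Ideal.Quotient.eq_zero_iff_mem] at h
  exact h

theorem eq_zero_of_symPoly_eq_zero {S : Type u} [CommRing S] [Algebra B S] (hS : Function.Surjective (algebraMap B S))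
    {M : Type u} [AddCommGroup M] [Module B M] [Module S M] [IsScalarTower B S M] {σ : Type u}
    (j : M →ₗ[S] σ →₀ S) (r : (σ →₀ S) →ₗ[S] M) (hjr : ∀ v, r (j v) = v) {ι : Type u} [Fintype ι]
    [Module S (SymmetricPower B ι M)] [IsScalarTower B S (SymmetricPower B ι M)]
    (p : SymmetricPower B ι M →ₗ[B] MvPolynomial σ S)
    (hp : ∀ x : ι → M, p (SymmetricPower.tprod B x) = ∏ i, linForm (j (x i)))
    (y : SymmetricPower B ι M) (hy : p y = 0) : y = 0 := by
  classical
  let pick : (σ →₀ ℕ) → SymmetricPower B ι M := fun d =>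
    if h : ∃ c : ι → σ, mult c = d then
      SymmetricPower.tprod B (fun i => r (Finsupp.single (h.choose i) 1)) else 0
  let Linv : MvPolynomial σ S →ₗ[B] SymmetricPower B ι M :=
    ((MvPolynomial.basisMonomials σ S).constr ℕ pick).restrictScalars B
  let F : MultilinearMap B (fun _ : ι => σ →₀ S) (SymmetricPower B ι M) :=
    Linv.compMultilinearMap ((MultilinearMap.mkPiAlgebra B ι (MvPolynomial σ S)).compLinearMap
      fun _ => (linForm (R := S) (σ := σ)).restrictScalars B)
  let G : MultilinearMap B (fun _ : ι => σ →₀ S) (SymmetricPower B ι M) :=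
    (SymmetricPower.tprod B).compLinearMap fun _ => r.restrictScalars B
  have hFG : F = G := by
    refine multilinear_ext_span (fun v : σ => Finsupp.single v (1 : S)) ?_ fun c => ?_
    · refine top_le_iff.1 fun x _ => ?_
      induction x using Finsupp.induction_linear with
      | zero => exact zero_mem _
      | add a b ha hb => exact add_mem (ha trivial) (hb trivial)
      | single s c =>
        obtain ⟨b, rfl⟩ := hS c
        rw [show Finsupp.single s (algebraMap B S b) = b • Finsupp.single s (1 : S) by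
          rw [Finsupp.smul_single, ← Algebra.algebraMap_eq_smul_one]]
        exact Submodule.smul_mem _ _ (Submodule.subset_span ⟨s, rfl⟩)
    · have hc : ∃ c' : ι → σ, mult c' = mult c := ⟨c, rfl⟩
      simp only [F, G, LinearMap.compMultilinearMap_apply, MultilinearMap.compLinearMap_apply,
        MultilinearMap.mkPiAlgebra_apply, LinearMap.restrictScalars_apply, linForm_single, one_smul, prod_X_eq_monomial,
        Linv]
      rw [show MvPolynomial.monomial (mult c) (1 : S) = MvPolynomial.basisMonomials σ S (mult c) from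
        (MvPolynomial.coe_basisMonomials (σ := σ) (R := S) ▸ rfl), Module.Basis.constr_basis]
      simp only [pick, dif_pos hc]
      obtain ⟨e, he⟩ := exists_perm_of_mult_eq hc.choose_spec
      conv_lhs => rw [he]
      exact SymmetricPower.tprod_equiv e fun i => r (Finsupp.single (c i) (1 : S))
  have hinv : Linv.comp p = LinearMap.id := sym_ext fun x => by
    rw [LinearMap.comp_apply, hp, LinearMap.id_apply]
    have h1 : F (fun i => j (x i)) = G (fun i => j (x i)) := by rw [hFG]
    simp only [F, G, LinearMap.compMultilinearMap_apply, MultilinearMap.compLinearMap_apply,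
        MultilinearMap.mkPiAlgebra_apply, LinearMap.restrictScalars_apply, hjr] at h1
    exact h1
  have h3 := LinearMap.congr_fun hinv y
  rw [LinearMap.comp_apply, hy, map_zero, LinearMap.id_apply] at h3
  exact h3.symm

theorem symGrBijective_of_isAdicFormallySmooth [Algebra.FormallySmooth A (B ⧸ J)]
    (hB : CAlgX.IsAdicFormallySmooth A B J) : SymGrBijective B J := by
  classical
  intro ι _ _
  obtain ⟨φ, hφ, hsur⟩ := exists_gr_map J ι
  refine ⟨φ, hφ, ?_, hsur⟩
  haveI := projective_cotangent hB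
  obtain ⟨j, hj⟩ := LinearMap.exists_rightInverse_of_surjective
    (Finsupp.linearCombination (B ⧸ J) (id : J.Cotangent → J.Cotangent))
    (LinearMap.range_eq_top.2 (Finsupp.linearCombination_id_surjective _ _))
  obtain ⟨D, hD⟩ := exists_cotangent_derivation (A := A) (J := J)
  let L : J.Cotangent →ₗ[B] MvPolynomial J.Cotangent (B ⧸ J) := (linForm.comp j).restrictScalars B
  have hL : ∀ v, L v ∈ MvPolynomial.idealOfVars J.Cotangent (B ⧸ J) := fun v => linForm_mem (B := B ⧸ J) (j v)
  let p : SymmetricPower B ι J.Cotangent →ₗ[B] MvPolynomial J.Cotangent (B ⧸ J) :=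
    symLift ((MultilinearMap.mkPiAlgebra B ι _).compLinearMap fun _ => L) fun e x => by
      simp only [MultilinearMap.compLinearMap_apply, MultilinearMap.mkPiAlgebra_apply]
      exact Equiv.prod_comp e fun i => L (x i)
  have hp : ∀ x : ι → J.Cotangent, p (SymmetricPower.tprod B x) = ∏ i, L (x i) := fun x => by simp [p]
  obtain ⟨χ, h1, h2⟩ := sub_mem_pow_of_lift hB (fun x hx => by
    rw [IsScalarTower.algebraMap_apply B (B ⧸ J) (MvPolynomial J.Cotangent (B ⧸ J)), Ideal.Quotient.algebraMap_eq,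
      Ideal.Quotient.eq_zero_iff_mem.2 hx, map_zero]) D hD _ L hL (Fintype.card ι)
  have hphom : ∀ y, p y ∈ MvPolynomial.homogeneousSubmodule J.Cotangent (B ⧸ J) (Fintype.card ι) := fun y => by
    have hy : y ∈ Submodule.span B (Set.range (SymmetricPower.tprod B (ι := ι) (M := J.Cotangent))) :=
      SymmetricPower.span_tprod_eq_top B ι J.Cotangent ▸ Submodule.mem_top
    induction hy using Submodule.span_induction with
    | mem w hw =>
      obtain ⟨v, rfl⟩ := hw
      rw [hp]
      have h := IsHomogeneous.prod Finset.univ (fun i => L (v i)) (fun _ : ι => 1) fun i _ => linForm_isHomogeneous (j (v i))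
      simpa using h
    | zero => rw [map_zero]; exact zero_mem _
    | add a b _ _ ha hb => rw [map_add]; exact add_mem ha hb
    | smul c a _ ha =>
      rw [map_smul, ← algebraMap_smul (B ⧸ J) c]
      exact Submodule.smul_mem _ _ ha
  haveI hT : Module.IsTorsionBySet B (SymmetricPower B ι J.Cotangent) (J : Set B) := fun t a =>
    smul_tprod_eq_zero a.2 t
  letI : Module (B ⧸ J) (SymmetricPower B ι J.Cotangent) := hT.module
  haveI : IsScalarTower B (B ⧸ J) (SymmetricPower B ι J.Cotangent) := hT.isScalarTower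
  rw [injective_iff_map_eq_zero]
  intro y hy
  refine eq_zero_of_symPoly_eq_zero (S := B ⧸ J) Ideal.Quotient.mk_surjective j (Finsupp.linearCombination (B ⧸ J) (id : J.Cotangent → J.Cotangent)) (fun v => LinearMap.congr_fun hj v) p hp y ?_
  rw [← homogeneousComponent_of_mem (hphom y) |>.trans (if_pos rfl)]
  exact PPLib.homogeneousComponent_eq_zero (B ⧸ J) _ (mem_pow_of_gr_eq_zero _ L hL φ hφ p hp χ h1 h2 y hy)

end Groth.Agent.AdicFS4
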