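import Groth.Agent.AdicFS4.Graded

/-!
# The graded criterion: the converse
-/

set_option linter.style.haveILetI false

open TensorProduct MvPolynomial PP16 Groth.Agent.PPLib

universe u

namespace Groth.Agent.AdicFS4

section subst

variable {S : Type u} [CommRing S] {σ : Type u} (π : (σ →₀ S) →ₗ[S] (σ →₀ S))

/-- Linear substitution of the variables. -/
noncomputable def subst : MvPolynomial σ S →ₐ[S] MvPolynomial σ S :=
  MvPolynomial.aeval fun s => linForm (π (Finsupp.single s 1))

theorem subst_homogeneous (p : MvPolynomial σ S) (n : ℕ) (h : p.IsHomogeneous n) : (subst π p).IsHomogeneous n := by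
  have := h.aeval (φ := p) (fun s => linForm (π (Finsupp.single s 1))) (fun s => linForm_isHomogeneous (R := S) _)
  simpa [subst] using this

theorem subst_homogeneousComponent (p : MvPolynomial σ S) (n : ℕ) :
    homogeneousComponent n (subst π p) = subst π (homogeneousComponent n p) := by
  classical
  induction p using MvPolynomial.induction_on' with
  | monomial d a =>
    have h : (monomial d a).IsHomogeneous d.degree := isHomogeneous_monomial a rfl
    rw [homogeneousComponent_of_mem ((mem_homogeneousSubmodule _ _).2 h),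
      homogeneousComponent_of_mem ((mem_homogeneousSubmodule _ _).2 (subst_homogeneous π _ _ h))]
    split_ifs <;> simp
  | add p q hp hq => simp only [map_add, hp, hq]

theorem aeval_linForm {T : Type u} [CommRing T] [Algebra S T] (v : σ → T) (x : σ →₀ S) :
    MvPolynomial.aeval v (linForm x) = Finsupp.linearCombination S v x := by
  induction x using Finsupp.induction_linear with
  | zero => simp
  | add a b ha hb => simp only [map_add, ha, hb]
  | single s r => simp [linForm_single]

theorem aeval_subst {T : Type u} [CommRing T] [Algebra S T] (v : σ → T)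
    (h : ∀ x, Finsupp.linearCombination S v (π x) = Finsupp.linearCombination S v x) (p : MvPolynomial σ S) :
    MvPolynomial.aeval v (subst π p) = MvPolynomial.aeval v p := by
  have : (MvPolynomial.aeval v).comp (subst π) = MvPolynomial.aeval v := by
    refine MvPolynomial.algHom_ext fun s => ?_
    simp [subst, aeval_linForm, h]
  exact AlgHom.congr_fun this p

theorem homogeneous_mem_pow {T : Type u} [CommRing T] [Algebra S T] (v : σ → T) (I : Ideal T) (hv : ∀ s, v s ∈ I)
    {p : MvPolynomial σ S} {n : ℕ} (hp : p ∈ MvPolynomial.idealOfVars σ S ^ n) : MvPolynomial.aeval v p ∈ I ^ n := by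
  have h : (MvPolynomial.idealOfVars σ S).map (MvPolynomial.aeval v) ≤ I := by
    rw [MvPolynomial.idealOfVars, Ideal.map_span, Ideal.span_le]
    rintro _ ⟨_, ⟨s, rfl⟩, rfl⟩
    simpa using hv s
  exact Ideal.pow_right_mono h n (Ideal.map_pow (MvPolynomial.aeval (R := S) v) (MvPolynomial.idealOfVars σ S) n ▸ Ideal.mem_map_of_mem _ hp)

theorem homogeneous_mem_idealOfVars_pow {p : MvPolynomial σ S} {n : ℕ} (hp : p.IsHomogeneous n) :
    p ∈ MvPolynomial.idealOfVars σ S ^ n :=
  (MvPolynomial.mem_pow_idealOfVars_iff _ p).2 fun d hd => by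
    have h := hp (MvPolynomial.mem_support_iff.1 hd)
    rw [Finsupp.weight_apply] at h
    rw [← h]
    exact le_of_eq (by simp [Finsupp.sum, Finsupp.degree_apply])

end subst

variable {A B : Type u} [CommRing A] [CommRing B] [Algebra A B] {J : Ideal B}

/-- Homogeneous components in the image of the symmetric power. -/
theorem exists_sym_of_homogeneous {σ : Type u} (j : J.Cotangent →ₗ[B ⧸ J] σ →₀ (B ⧸ J))
    (r : (σ →₀ (B ⧸ J)) →ₗ[B ⧸ J] J.Cotangent) {ι : Type u} [Fintype ι]
    (p : SymmetricPower B ι J.Cotangent →ₗ[B] MvPolynomial σ (B ⧸ J))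
    (hp : ∀ x : ι → J.Cotangent, p (SymmetricPower.tprod B x) = ∏ i, linForm (j (x i)))
    (q : MvPolynomial σ (B ⧸ J)) (hq : q.IsHomogeneous (Fintype.card ι)) :
    ∃ y, p y = subst (j.comp r) q := by
  classical
  rw [q.as_sum, map_sum]
  suffices h : ∀ d ∈ q.support, ∃ y, p y = subst (j.comp r) (monomial d (q.coeff d)) by
    choose y hy using h
    exact ⟨∑ d ∈ q.support.attach, y d.1 d.2, by
      rw [map_sum, ← Finset.sum_attach q.support fun d => subst (j.comp r) (monomial d (q.coeff d))]
      exact Finset.sum_congr rfl fun d _ => hy d.1 d.2⟩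
  intro d hd
  obtain ⟨b, hb⟩ := Ideal.Quotient.mk_surjective (q.coeff d)
  have hcard : Fintype.card (Σ s : d.support, Fin (d s)) = Fintype.card ι := by
    have h := hq (MvPolynomial.mem_support_iff.1 hd)
    rw [← h, Fintype.card_sigma, Finsupp.weight_apply]
    simp only [Fintype.card_fin, Finsupp.sum, Pi.one_apply, smul_eq_mul, mul_one]
    exact Finset.sum_coe_sort d.support fun s => d s
  let e : ι ≃ Σ s : d.support, Fin (d s) := (Fintype.equivOfCardEq hcard).symm
  refine ⟨b • SymmetricPower.tprod B (fun i => r (Finsupp.single ((e i).1 : σ) 1)), ?_⟩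
  rw [map_smul, hp, monomial_eq, map_mul, Finsupp.prod, map_prod, ← Finset.prod_coe_sort d.support,
    ← hb, Algebra.smul_def, IsScalarTower.algebraMap_apply B (B ⧸ J) (MvPolynomial σ (B ⧸ J))]
  congr 1
  · simp [subst, MvPolynomial.algebraMap_eq]
  · rw [e.prod_comp (fun x : Σ s : d.support, Fin (d s) => linForm (j (r (Finsupp.single (x.1 : σ) 1)))),
      Fintype.prod_sigma]
    exact Finset.prod_congr rfl fun s _ => by simp [subst]

theorem isAdicFormallySmooth_of_symGr [Algebra.FormallySmooth A (B ⧸ J)] [Module.Projective (B ⧸ J) J.Cotangent]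
    (hgr : SymGrBijective B J) : CAlgX.IsAdicFormallySmooth A B J := by
  classical
  intro E _ _ M hM ψ hψ
  obtain ⟨k, hk⟩ := hψ
  obtain ⟨N, hN⟩ : ∃ N, N + 1 = (k + 1) * 2 := ⟨(k + 1) * 2 - 1, by omega⟩
  obtain ⟨s, hs⟩ := exists_section (J := J) A N
  obtain ⟨j, hj⟩ := LinearMap.exists_rightInverse_of_surjective
    (Finsupp.linearCombination (B ⧸ J) (id : J.Cotangent → J.Cotangent))
    (LinearMap.range_eq_top.2 (Finsupp.linearCombination_id_surjective _ _))
  set r := Finsupp.linearCombination (B ⧸ J) (id : J.Cotangent → J.Cotangent) with hrdef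
  have hjr : ∀ v, r (j v) = v := fun v => LinearMap.congr_fun hj v
  have hk1 : ∀ x ∈ J ^ (k + 1), ψ x = 0 := fun x hx => hk x (Ideal.pow_le_pow_right (Nat.le_succ k) hx)
  let ψN : B ⧸ J ^ (N + 1) →ₐ[A] E ⧸ M := Ideal.Quotient.liftₐ _ ψ fun x hx =>
    hk1 x (Ideal.pow_le_pow_right (by omega) hx)
  have hψN : ∀ b, ψN (Ideal.Quotient.mk _ b) = ψ b := fun b => rfl
  let u₀ : (B ⧸ J) →ₐ[A] E := Algebra.FormallySmooth.lift M ⟨2, hM⟩ (ψN.comp s)
  have hu₀ : ∀ c, Ideal.Quotient.mk M (u₀ c) = ψN (s c) := fun c => Algebra.FormallySmooth.mk_lift _ _ _ c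
  letI algE : Algebra (B ⧸ J) E := u₀.toRingHom.toAlgebra
  letI algN : Algebra (B ⧸ J) (B ⧸ J ^ (N + 1)) := s.toRingHom.toAlgebra
  haveI : IsScalarTower A (B ⧸ J) E := .of_algebraMap_eq fun a => (u₀.commutes a).symm
  haveI : IsScalarTower A (B ⧸ J) (B ⧸ J ^ (N + 1)) := .of_algebraMap_eq fun a => (s.commutes a).symm
  let J' : Ideal (B ⧸ J ^ (N + 1)) := J.map (Ideal.Quotient.mk _)
  let X : J.Cotangent → J := Function.surjInv J.toCotangent_surjective
  have hX : ∀ t, J.toCotangent (X t) = t := Function.surjInv_eq _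
  let J2 : Ideal (B ⧸ J ^ (N + 1)) := (J ^ 2).map (Ideal.Quotient.mk _)
  let q2 := (J2.restrictScalars (B ⧸ J)).mkQ
  have hq2 : ∀ x y : J, J.toCotangent x = J.toCotangent y →
      q2 (Ideal.Quotient.mk _ (x : B)) = q2 (Ideal.Quotient.mk _ (y : B)) := fun x y h => by
    rw [Submodule.mkQ_apply, Submodule.mkQ_apply, Submodule.Quotient.eq, ← map_sub]
    exact Ideal.mem_map_of_mem _ (J.toCotangent_eq.1 h)
  let lam₂ : J.Cotangent →ₗ[B ⧸ J] _ :=
    { toFun := fun t => q2 (Ideal.Quotient.mk _ (X t : B))
      map_add' := fun a b => by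
        rw [← map_add q2, ← map_add (Ideal.Quotient.mk (J ^ (N + 1))), ← Submodule.coe_add]
        exact hq2 _ _ (by rw [map_add, hX, hX, hX])
      map_smul' := fun c t => by
        obtain ⟨b, rfl⟩ := Ideal.Quotient.mk_surjective c
        rw [RingHom.id_apply, ← map_smul q2, hq2 (X (Ideal.Quotient.mk J b • t)) (b • X t)
          (by rw [map_smul, hX, hX, ← algebraMap_smul (B ⧸ J) b t]; rfl)]
        rw [Submodule.mkQ_apply, Submodule.mkQ_apply, Submodule.Quotient.eq]
        show Ideal.Quotient.mk _ (b * (X t : B)) - s (Ideal.Quotient.mk J b) * Ideal.Quotient.mk _ (X t : B) ∈ J2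
        rw [map_mul, ← sub_mul]
        have h1 : Ideal.Quotient.mk _ b - s (Ideal.Quotient.mk J b) ∈ J' :=
          ker_red_le (A := A) N (by
            show red (A := A) J N _ = 0
            rw [map_sub, red_mk, hs, sub_self])
        have h2 := Ideal.mul_mem_mul h1 (Ideal.mem_map_of_mem (Ideal.Quotient.mk (J ^ (N + 1))) (X t).2)
        rwa [← Ideal.map_mul, ← pow_two] at h2 }
  obtain ⟨lam, hlam⟩ := Module.projective_lifting_property q2 lam₂ (Submodule.mkQ_surjective _)
  have hlam' : ∀ x : J, lam (J.toCotangent x) - Ideal.Quotient.mk _ (x : B) ∈ J2 := fun x => by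
    have h1 : q2 (lam (J.toCotangent x)) = q2 (Ideal.Quotient.mk _ (x : B)) :=
      (LinearMap.congr_fun hlam _).trans (hq2 _ _ (hX _))
    exact (Submodule.Quotient.eq _).1 h1
  have hlamJ : ∀ t, lam t ∈ J' := fun t => by
    obtain ⟨x, rfl⟩ := J.toCotangent_surjective t
    have := add_mem (Ideal.map_mono (Ideal.pow_le_self two_ne_zero) (hlam' x) : _ ∈ J')
      (Ideal.mem_map_of_mem (Ideal.Quotient.mk (J ^ (N + 1))) x.2)
    rwa [sub_add_cancel] at this
  let ψL : (B ⧸ J ^ (N + 1)) →ₐ[B ⧸ J] E ⧸ M := { ψN.toRingHom with commutes' := fun c => (hu₀ c).symm }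
  let qM : E →ₗ[B ⧸ J] E ⧸ M := (Ideal.Quotient.mkₐ (B ⧸ J) M).toLinearMap
  obtain ⟨Lam, hLam⟩ := Module.projective_lifting_property qM (ψL.toLinearMap.comp lam) Ideal.Quotient.mk_surjective
  have hLam' : ∀ t, Ideal.Quotient.mk M (Lam t) = ψN (lam t) := fun t => LinearMap.congr_fun hLam t
  let θ : MvPolynomial J.Cotangent (B ⧸ J) →ₐ[B ⧸ J] B ⧸ J ^ (N + 1) := MvPolynomial.aeval fun t => lam t
  let w : MvPolynomial J.Cotangent (B ⧸ J) →ₐ[B ⧸ J] E := MvPolynomial.aeval fun t => Lam t
  have hwθ : ∀ p, Ideal.Quotient.mk M (w p) = ψN (θ p) := fun p => by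
    have h : (Ideal.Quotient.mkₐ (B ⧸ J) M).comp w = ψL.comp θ :=
      MvPolynomial.algHom_ext fun t => by simp [w, θ]; exact hLam' t
    exact AlgHom.congr_fun h p
  -- surjectivity
  have hθ : Function.Surjective θ := by
    suffices h : ∀ i, ∀ z ∈ J' ^ i, ∃ p, z - θ p ∈ J' ^ (i + 1) ∧ (0 < i → p ∈ MvPolynomial.idealOfVars _ _) by
      have hzero : J' ^ (N + 1) = ⊥ := by rw [← Ideal.map_pow, Ideal.map_quotient_self]
      have h' : ∀ i, ∀ z, ∃ p, z - θ p ∈ J' ^ i := by
        intro i
        induction i with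
        | zero => exact fun z => ⟨0, by simp⟩
        | succ i ih =>
          intro z
          obtain ⟨p, hp⟩ := ih z
          obtain ⟨q, hq, -⟩ := h i _ hp
          exact ⟨p + q, by rwa [map_add, ← sub_sub]⟩
      intro z
      obtain ⟨p, hp⟩ := h' (N + 1) z
      rw [hzero, Ideal.mem_bot, sub_eq_zero] at hp
      exact ⟨p, hp.symm⟩
    intro i
    induction i with
    | zero =>
      intro z _
      refine ⟨MvPolynomial.C (red (A := A) J N z), ?_, fun h => absurd h (lt_irrefl 0)⟩
      rw [MvPolynomial.aeval_C, pow_one]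
      refine ker_red_le (A := A) N ?_
      show red (A := A) J N (z - s (red (A := A) J N z)) = 0
      rw [map_sub, hs, sub_self]
    | succ i ih =>
      intro z hz
      rw [pow_succ' J' i] at hz
      refine Submodule.mul_induction_on hz (fun a ha b hb => ?_) ?_
      · obtain ⟨a', ha', rfl⟩ := (Ideal.mem_map_iff_of_surjective _ Ideal.Quotient.mk_surjective).1 ha
        obtain ⟨q, hq, -⟩ := ih b hb
        refine ⟨MvPolynomial.X (J.toCotangent ⟨a', ha'⟩) * q, ?_, fun _ =>
          Ideal.mul_mem_right _ _ (Ideal.subset_span ⟨_, rfl⟩)⟩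
        rw [map_mul, MvPolynomial.aeval_X]
        have h1 : lam (J.toCotangent ⟨a', ha'⟩) - Ideal.Quotient.mk (J ^ (N + 1)) a' ∈ J' ^ 2 := by
          rw [← Ideal.map_pow]; exact hlam' ⟨a', ha'⟩
        rw [show Ideal.Quotient.mk (J ^ (N + 1)) a' * b - lam (J.toCotangent ⟨a', ha'⟩) * θ q =
          lam (J.toCotangent ⟨a', ha'⟩) * (b - θ q) - (lam (J.toCotangent ⟨a', ha'⟩) - Ideal.Quotient.mk _ a') * b by ring]
        refine sub_mem ?_ ?_
        · have := Ideal.mul_mem_mul (hlamJ (J.toCotangent ⟨a', ha'⟩)) hq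
          rwa [← pow_succ' J'] at this
        · have := Ideal.mul_mem_mul h1 hb
          rwa [← pow_add, show 2 + i = i + 1 + 1 by omega] at this
      · rintro a b ⟨p, hp, hp'⟩ ⟨q, hq, hq'⟩
        refine ⟨p + q, ?_, fun h => add_mem (hp' h) (hq' h)⟩
        rw [map_add, show a + b - (θ p + θ q) = (a - θ p) + (b - θ q) by ring]
        exact add_mem hp hq
  -- invariance
  let π : (J.Cotangent →₀ (B ⧸ J)) →ₗ[B ⧸ J] (J.Cotangent →₀ (B ⧸ J)) := j.comp r
  have hcomb : ∀ {T : Type u} [AddCommGroup T] [Module (B ⧸ J) T] (f : J.Cotangent →ₗ[B ⧸ J] T) (x : J.Cotangent →₀ (B ⧸ J)),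
      Finsupp.linearCombination (B ⧸ J) (fun t => f t) x = f (r x) := fun f x => by
    induction x using Finsupp.induction_linear with
    | zero => simp
    | add a b ha hb => simp only [map_add, ha, hb]
    | single t c => simp [r]
  have hθinv : ∀ p, θ (subst π p) = θ p := aeval_subst π _ fun x => by
    rw [hcomb, hcomb]; exact congrArg lam (hjr (r x))
  have hwinv : ∀ p, w (subst π p) = w p := aeval_subst π _ fun x => by
    rw [hcomb, hcomb]; exact congrArg Lam (hjr (r x))
  -- kernel
  have hker : ∀ p, θ p = 0 → ∀ i ≤ N + 1, subst π p ∈ MvPolynomial.idealOfVars _ _ ^ i := by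
    intro p hp i
    induction i with
    | zero => intro; simp
    | succ i ih =>
      intro hi
      have hmem := ih (Nat.le_of_succ_le hi)
      have hcomp : homogeneousComponent i (subst π p) = 0 := by
        have hdiff : subst π p - homogeneousComponent i (subst π p) ∈ MvPolynomial.idealOfVars _ _ ^ (i + 1) := by
          refine (MvPolynomial.mem_pow_idealOfVars_iff _ _).2 fun d hd => ?_
          rw [MvPolynomial.mem_support_iff, coeff_sub, coeff_homogeneousComponent] at hd
          by_cases h : d.degree = i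
          · simp [h] at hd
          · simp only [h, if_false, sub_zero] at hd
            have := (MvPolynomial.mem_pow_idealOfVars_iff _ _).1 hmem d (MvPolynomial.mem_support_iff.2 hd)
            simp only [Finsupp.degree, Finsupp.sum] at h this ⊢
            omega
        have h1 : θ (homogeneousComponent i (subst π p)) ∈ J' ^ (i + 1) := by
          have h2 := homogeneous_mem_pow (S := B ⧸ J) (fun t => lam t) J' hlamJ hdiff
          change θ (subst π p - homogeneousComponent i (subst π p)) ∈ _ at h2
          rwa [map_sub, hθinv, hp, zero_sub, neg_mem_iff] at h2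
        rcases Nat.eq_zero_or_pos i with rfl | hipos
        · rw [homogeneousComponent_zero] at h1 ⊢
          rw [MvPolynomial.aeval_C, zero_add, pow_one] at h1
          have h3 : red (A := A) J N (s (coeff 0 (subst π p))) = 0 := by
            obtain ⟨x, hx, hx'⟩ := (Ideal.mem_map_iff_of_surjective _ Ideal.Quotient.mk_surjective).1 h1
            change Ideal.Quotient.mk _ x = s (coeff 0 (subst π p)) at hx'
            rw [← hx', red_mk, Ideal.Quotient.eq_zero_iff_mem.2 hx]
          rw [hs] at h3
          rw [h3, map_zero]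
        · let ι := ULift.{u} (Fin i)
          haveI : Nonempty ι := ⟨⟨⟨0, hipos⟩⟩⟩
          have hcard : Fintype.card ι = i := by simp [ι]
          let L : J.Cotangent →ₗ[B] MvPolynomial J.Cotangent (B ⧸ J) := (linForm.comp j).restrictScalars B
          let P : SymmetricPower B ι J.Cotangent →ₗ[B] MvPolynomial J.Cotangent (B ⧸ J) :=
            symLift ((MultilinearMap.mkPiAlgebra B ι _).compLinearMap fun _ => L) fun e x => by
              simp only [MultilinearMap.compLinearMap_apply, MultilinearMap.mkPiAlgebra_apply]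
              exact Equiv.prod_comp e fun t => L (x t)
          have hP : ∀ x : ι → J.Cotangent, P (SymmetricPower.tprod B x) = ∏ t, linForm (j (x t)) :=
            fun x => by simp [P]; rfl
          obtain ⟨y, hy⟩ := exists_sym_of_homogeneous j r P hP (homogeneousComponent i p)
            (by rw [hcard]; exact homogeneousComponent_isHomogeneous i p)
          rw [subst_homogeneousComponent π p i, ← hy] at h1 ⊢
          obtain ⟨φ, hφ, hbij⟩ := hgr ι
          suffices hy0 : φ y = 0 by rw [(map_eq_zero_iff φ hbij.1).1 hy0, map_zero]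
          have key : ∀ t, ∃ z : ↥(J ^ Fintype.card ι), φ t = Submodule.Quotient.mk z ∧
              θ (P t) - Ideal.Quotient.mk _ (z : B) ∈ J' ^ (Fintype.card ι + 1) := fun t => by
            have ht : t ∈ Submodule.span B (Set.range (SymmetricPower.tprod B (ι := ι) (M := J.Cotangent))) :=
              SymmetricPower.span_tprod_eq_top B ι J.Cotangent ▸ Submodule.mem_top
            induction ht using Submodule.span_induction with
            | mem t ht =>
              obtain ⟨v, rfl⟩ := ht
              choose x hx using fun a => J.toCotangent_surjective (v a)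
              obtain rfl : v = fun a => J.toCotangent (x a) := funext fun a => (hx a).symm
              refine ⟨⟨∏ a, (x a : B), by simpa using PP16.prod_mem_pow J Finset.univ (fun a => (x a : B)) fun a _ => (x a).2⟩, hφ x, ?_⟩
              rw [hP, map_prod, map_prod, Finset.prod_congr rfl fun a _ => show θ (linForm (j (J.toCotangent (x a)))) =
                lam (J.toCotangent (x a)) by rw [aeval_linForm, hcomb, hjr]]
              simpa using prod_sub_prod_mem (J := J') (fun a => by rw [← Ideal.map_pow]; exact hlam' (x a))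
                (fun a => Ideal.mem_map_of_mem _ (x a).2) Finset.univ
            | zero => exact ⟨0, by rw [map_zero]; rfl, by simp⟩
            | add a b _ _ ha hb =>
              obtain ⟨za, ha1, ha2⟩ := ha
              obtain ⟨zb, hb1, hb2⟩ := hb
              refine ⟨za + zb, by rw [map_add, ha1, hb1]; rfl, ?_⟩
              rw [map_add, map_add, Submodule.coe_add, map_add, add_sub_add_comm]
              exact add_mem ha2 hb2
            | smul c a _ ha =>
              obtain ⟨z, hz1, hz2⟩ := ha
              refine ⟨c • z, by rw [map_smul, hz1]; rfl, ?_⟩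
              rw [map_smul, ← algebraMap_smul (B ⧸ J) c (P a), map_smul, Algebra.smul_def, Submodule.coe_smul,
                smul_eq_mul, map_mul]
              show s (Ideal.Quotient.mk J c) * θ (P a) - Ideal.Quotient.mk _ c * Ideal.Quotient.mk _ (z : B) ∈ _
              rw [show s (Ideal.Quotient.mk J c) * θ (P a) - Ideal.Quotient.mk _ c * Ideal.Quotient.mk _ (z : B) =
                s (Ideal.Quotient.mk J c) * (θ (P a) - Ideal.Quotient.mk _ (z : B)) +
                  (s (Ideal.Quotient.mk J c) - Ideal.Quotient.mk _ c) * Ideal.Quotient.mk _ (z : B) by ring]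
              refine add_mem (Ideal.mul_mem_left _ _ hz2) ?_
              rw [pow_succ' J']
              refine Ideal.mul_mem_mul (ker_red_le (A := A) N ?_) ?_
              · show red (A := A) J N _ = 0
                rw [map_sub, red_mk, hs, sub_self]
              · rw [← Ideal.map_pow]; exact Ideal.mem_map_of_mem _ z.2
          obtain ⟨z, hz1, hz2⟩ := key y
          rw [hz1, Submodule.Quotient.mk_eq_zero]
          show (z : B) ∈ J ^ (Fintype.card ι + 1)
          have h1' : θ (P y) ∈ J' ^ (Fintype.card ι + 1) := by rw [hcard]; exact h1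
          have h4 := sub_mem h1' hz2
          rw [sub_sub_cancel, ← Ideal.map_pow] at h4
          have h5 := Ideal.mem_quotient_iff_mem_sup.1 h4
          exact (show J ^ (Fintype.card ι + 1) ⊔ J ^ (N + 1) ≤ J ^ (Fintype.card ι + 1) from
            sup_le le_rfl (Ideal.pow_le_pow_right (by omega))) h5
      refine (MvPolynomial.mem_pow_idealOfVars_iff _ _).2 fun d hd => ?_
      have h2 := (MvPolynomial.mem_pow_idealOfVars_iff _ _).1 hmem d hd
      rcases Nat.lt_or_ge i (Finsupp.degree d) with h | h
      · simp only [Finsupp.degree, Finsupp.sum] at h ⊢; omega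
      · exfalso
        have hdeg : Finsupp.degree d = i := by simp only [Finsupp.degree, Finsupp.sum] at h h2 ⊢; omega
        have h3 := congrArg (coeff d) hcomp
        rw [coeff_homogeneousComponent, if_pos hdeg, coeff_zero] at h3
        exact MvPolynomial.mem_support_iff.1 hd h3
  have hzero : ∀ p, θ p = 0 → w p = 0 := fun p hp => by
    rw [← hwinv]
    have h1 := hker p hp (N + 1) le_rfl
    rw [hN, pow_mul] at h1
    have hkk : ∀ q ∈ MvPolynomial.idealOfVars J.Cotangent (B ⧸ J) ^ (k + 1), w q ∈ M := fun q hq => by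
      rw [← Ideal.Quotient.eq_zero_iff_mem, hwθ]
      have h2 := homogeneous_mem_pow (S := B ⧸ J) (fun t => lam t) J' hlamJ hq
      rw [← Ideal.map_pow, Ideal.mem_map_iff_of_surjective _ Ideal.Quotient.mk_surjective] at h2
      obtain ⟨x, hx, hx'⟩ := h2
      rw [← hx', hψN]
      exact hk1 x hx
    rw [pow_two] at h1
    refine Submodule.mul_induction_on h1 (fun a ha b hb => ?_) fun a b ha hb => by rw [map_add, ha, hb, add_zero]
    rw [map_mul, ← Ideal.mem_bot, ← hM, pow_two]
    exact Ideal.mul_mem_mul (hkk a ha) (hkk b hb)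
  have hzero' : RingHom.ker (θ.restrictScalars A).toRingHom ≤ RingHom.ker (w.restrictScalars A).toRingHom :=
    fun p hp => hzero p hp
  let w' : (B ⧸ J ^ (N + 1)) →ₐ[A] E := AlgHom.liftOfSurjective (θ.restrictScalars A) hθ (w.restrictScalars A) hzero'
  have hw' : ∀ p, w' (θ p) = w p := fun p => AlgHom.liftOfSurjective_apply (θ.restrictScalars A) hθ (w.restrictScalars A) hzero' p
  refine ⟨w'.comp (Ideal.Quotient.mkₐ A _), AlgHom.ext fun b => ?_⟩
  obtain ⟨p, hp⟩ := hθ (Ideal.Quotient.mk _ b)
  show Ideal.Quotient.mk M (w' (Ideal.Quotient.mk _ b)) = ψ b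
  rw [← hp, hw', hwθ, hp, hψN]

end Groth.Agent.AdicFS4
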