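import Groth.Agent.AdicSmooth.Jacobian
import Groth.Agent.AdicFS4.Rel
import Groth.Agent.S2463

/-!
# Adic formal smoothness of local rings presented by noetherian formally smooth local algebras
-/

set_option linter.style.haveILetI false

open TensorProduct IsLocalRing KaehlerDifferential

universe u

namespace Groth.Agent.AdicFS4

variable {R S P : Type u} [CommRing R] [CommRing S] [CommRing P] [Algebra R S] [Algebra R P]
  [Algebra P S] [IsScalarTower R P S]

theorem mem_mul_of_D_mem [IsLocalRing S] [IsLocalRing P] [IsNoetherianRing P]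
    (hsurj : Function.Surjective (algebraMap P S))
    (hfs : CAlgX.IsAdicFormallySmooth R S (maximalIdeal S)) {x : P} (hx : x ∈ RingHom.ker (algebraMap P S))
    (hD : D R P x ∈ maximalIdeal P • (⊤ : Submodule P Ω[P⁄R])) :
    x ∈ maximalIdeal P * RingHom.ker (algebraMap P S) := by
  set I := RingHom.ker (algebraMap P S) with hI
  set Q := (maximalIdeal S).comap (algebraMap P S) with hQ
  haveI : IsLocalHom (algebraMap P S) := hsurj.isLocalHom
  have hQm : Q = maximalIdeal P := by
    rw [hQ]; exact IsLocalRing.eq_maximalIdeal (Ideal.comap_isMaximal_of_surjective _ hsurj)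
  rw [← hQm] at hD ⊢
  have key : ∀ n, x ∈ Q * I ⊔ Q ^ n := by
    intro n
    obtain ⟨d, hd⟩ := AdicSmooth.exists_derivation hfs hsurj n
    set l := d.liftKaehlerDifferential
    have h1 : d x ∈ Q • (⊤ : Submodule P _) := by
      rw [show d x = l (D R P x) from (Derivation.liftKaehlerDifferential_comp_D d x).symm]
      refine (?_ : _ ≤ Q • (⊤ : Submodule P _)) (Submodule.mem_map_of_mem (f := l) hD)
      rw [Submodule.map_smul'']
      exact Submodule.smul_mono le_rfl le_top
    have h2 : ∀ z ∈ Q • (⊤ : Submodule P ((I ⊔ Q ^ n).map (Ideal.Quotient.mk (I ^ 2 ⊔ Q ^ n)))),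
        (z : P ⧸ (I ^ 2 ⊔ Q ^ n)) ∈ (Q * (I ⊔ Q ^ n)).map (Ideal.Quotient.mk (I ^ 2 ⊔ Q ^ n)) := by
      intro z hz
      refine Submodule.smul_induction_on hz (fun c hc w _ => ?_) fun a b ha hb => ?_
      · rw [Ideal.map_mul, Submodule.coe_smul_of_tower, Algebra.smul_def]
        exact Ideal.mul_mem_mul (Ideal.mem_map_of_mem _ hc) w.2
      · rw [Submodule.coe_add]; exact add_mem ha hb
    have h3 := h2 _ h1
    rw [hd x hx, neg_mem_iff, Ideal.mem_quotient_iff_mem_sup] at h3
    refine (show _ ≤ Q * I ⊔ Q ^ n from (sup_le ?_ (sup_le ?_ le_sup_right))) h3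
    · rw [Ideal.mul_sup]
      exact sup_le le_sup_left (Ideal.mul_le_right.trans le_sup_right)
    · rw [pow_two]
      exact le_sup_of_le_left (Ideal.mul_mono_left
        (hQm ▸ le_maximalIdeal (RingHom.ker_ne_top _)))
  have hQtop : Q ≠ ⊤ := hQm ▸ Ideal.IsPrime.ne_top inferInstance
  haveI : Nontrivial (P ⧸ Q * I) :=
    Ideal.Quotient.nontrivial_iff.2 fun h => hQtop (top_le_iff.1 (h ▸ Ideal.mul_le_left))
  haveI : IsLocalRing (P ⧸ Q * I) := IsLocalRing.of_surjective' _ Ideal.Quotient.mk_surjective
  rw [← Ideal.Quotient.eq_zero_iff_mem, ← Ideal.mem_bot,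
    ← Ideal.iInf_pow_eq_bot_of_isLocalRing (Q.map (Ideal.Quotient.mk (Q * I))) (fun h => by
      have h' := congrArg (Ideal.comap (Ideal.Quotient.mk (Q * I))) h
      rw [Ideal.comap_map_of_surjective _ Ideal.Quotient.mk_surjective, Ideal.comap_top,
        ← RingHom.ker_eq_comap_bot, Ideal.mk_ker, sup_eq_left.2 Ideal.mul_le_left] at h'
      exact hQtop h')]
  rw [Ideal.mem_iInf]
  intro n
  rw [← Ideal.map_pow, Ideal.mem_quotient_iff_mem_sup, sup_comm]
  exact key n

/-- Adic formal smoothness implies formal smoothness for local quotients of formally smooth noetherian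
local algebras, with no finiteness assumption on the differentials. -/
theorem formallySmooth_of_isAdicFormallySmooth_local [IsLocalRing S] [IsLocalRing P] [IsNoetherianRing P]
    [Algebra.FormallySmooth R P] (hsurj : Function.Surjective (algebraMap P S))
    (hfs : CAlgX.IsAdicFormallySmooth R S (maximalIdeal S)) : Algebra.FormallySmooth R S := by
  haveI : Module.Finite P (RingHom.ker (algebraMap P S)).Cotangent :=
    Module.Finite.of_surjective _ (Ideal.toCotangent_surjective _)
  let q := maximalIdeal S
  have hinj : Function.Injective ((kerCotangentToTensor R P S).lTensor q.ResidueField) := by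
    haveI : IsLocalHom (algebraMap P S) := hsurj.isLocalHom
    have hQm : (maximalIdeal S).comap (algebraMap P S) = maximalIdeal P :=
      IsLocalRing.eq_maximalIdeal (Ideal.comap_isMaximal_of_surjective _ hsurj)
    have hS : Function.Surjective (algebraMap S q.ResidueField) := Ideal.algebraMap_residueField_surjective q
    have hκ : Function.Surjective (Algebra.linearMap P q.ResidueField) := fun y => by
      obtain ⟨s, rfl⟩ := hS y
      obtain ⟨x, rfl⟩ := hsurj s
      exact ⟨x, IsScalarTower.algebraMap_apply P S q.ResidueField x⟩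
    have hker : LinearMap.ker (Algebra.linearMap P q.ResidueField) = maximalIdeal P := by
      ext x
      rw [LinearMap.mem_ker, Algebra.linearMap_apply, IsScalarTower.algebraMap_apply P S q.ResidueField,
        Ideal.algebraMap_residueField_eq_zero, ← hQm]
      rfl
    let e : q.ResidueField ≃ₗ[P] P ⧸ maximalIdeal P :=
      ((Algebra.linearMap P q.ResidueField).quotKerEquivOfSurjective hκ).symm.trans
        (Submodule.quotEquivOfEq _ _ hker)
    rw [injective_iff_map_eq_zero]
    intro ξ hξ
    obtain ⟨t, rfl⟩ := TensorProduct.mk_surjective P _ _ hκ ξ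
    obtain ⟨⟨x, hx⟩, rfl⟩ := Ideal.toCotangent_surjective _ t
    rw [TensorProduct.mk_apply, LinearMap.lTensor_tmul, kerCotangentToTensor_toCotangent] at hξ
    have he1 : e 1 = Ideal.Quotient.mk (maximalIdeal P) 1 := by
      apply e.symm.injective
      rw [LinearEquiv.symm_apply_apply]
      exact (map_one (algebraMap P q.ResidueField)).symm
    have h1 := congrArg (fun z => (TensorProduct.congr e (LinearEquiv.refl P Ω[P⁄R]))
      ((AlgebraTensorModule.cancelBaseChange P S S q.ResidueField Ω[P⁄R]).toLinearMap.restrictScalars P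
        (TensorProduct.mapOfCompatibleSMul S P P q.ResidueField (S ⊗[P] Ω[P⁄R]) z))) hξ
    simp only [map_zero] at h1
    have h2 : Ideal.Quotient.mk (maximalIdeal P) (1 : P) ⊗ₜ[P] D R P x = 0 := by
      rw [← he1]
      simpa using h1
    have h3 := congrArg (TensorProduct.quotTensorEquivQuotSMul Ω[P⁄R] (maximalIdeal P)) h2
    rw [map_zero, TensorProduct.quotTensorEquivQuotSMul_mk_tmul, one_smul, Submodule.Quotient.mk_eq_zero] at h3
    have h4 := mem_mul_of_D_mem hsurj hfs hx h3
    suffices ∃ hy : x ∈ RingHom.ker (algebraMap P S),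
        (1 : q.ResidueField) ⊗ₜ[P] (Ideal.toCotangent (RingHom.ker (algebraMap P S)) ⟨x, hy⟩) = 0 from this.2
    refine Submodule.mul_induction_on h4 (fun c hc w hw => ⟨Ideal.mul_mem_left _ c hw, ?_⟩)
      fun a b ⟨ha, ha'⟩ ⟨hb, hb'⟩ => ⟨add_mem ha hb, ?_⟩
    · rw [show (⟨c * w, Ideal.mul_mem_left _ c hw⟩ : RingHom.ker (algebraMap P S)) = c • ⟨w, hw⟩ from rfl,
        map_smul, ← TensorProduct.smul_tmul, ← Algebra.algebraMap_eq_smul_one]
      have : c ∈ LinearMap.ker (Algebra.linearMap P q.ResidueField) := hker ▸ hc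
      rw [LinearMap.mem_ker, Algebra.linearMap_apply] at this
      rw [this, zero_tmul]
    · rw [show (⟨a + b, add_mem ha hb⟩ : RingHom.ker (algebraMap P S)) = ⟨a, ha⟩ + ⟨b, hb⟩ from rfl, map_add,
        tmul_add, ha', hb', add_zero]
  haveI : Algebra.FormallySmooth R (Localization.AtPrime q) := ((S2463.result hsurj q).out 0 1).2 hinj
  let e : S ≃ₐ[S] Localization.AtPrime q :=
    IsLocalization.atUnits S q.primeCompl fun x hx => by simpa [q, IsUnit.mem_submonoid_iff] using! hx
  exact Algebra.FormallySmooth.of_equiv (e.restrictScalars R).symm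

/-- Adic formal smoothness over a localization of the base. -/
theorem isAdicFormallySmooth_base_iff {A A' : Type u} [CommRing A] [CommRing A'] [Algebra A A']
    (W : Submonoid A) [IsLocalization W A'] {T : Type u} [CommRing T] [Algebra A T] [Algebra A' T]
    [IsScalarTower A A' T] (I : Ideal T) :
    CAlgX.IsAdicFormallySmooth A' T I ↔ CAlgX.IsAdicFormallySmooth A T I := by
  haveI : Algebra.FormallyEtale A A' := .of_isLocalization W
  refine ⟨fun h => isAdicFormallySmooth_comp h, fun h E _ _ J hJ ψ hψ => ?_⟩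
  letI : Algebra A E := ((algebraMap A' E).comp (algebraMap A A')).toAlgebra
  haveI : IsScalarTower A A' E := IsScalarTower.of_algebraMap_eq fun _ => rfl
  obtain ⟨χ, hχ⟩ := h E J hJ (ψ.restrictScalars A) hψ
  have hcomm : χ.toRingHom.comp (algebraMap A' T) = algebraMap A' E :=
    IsLocalization.ringHom_ext W (RingHom.ext fun a => by
      show χ (algebraMap A' T (algebraMap A A' a)) = algebraMap A' E (algebraMap A A' a)
      rw [← IsScalarTower.algebraMap_apply, ← IsScalarTower.algebraMap_apply]
      exact χ.commutes a)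
  refine ⟨{ χ.toRingHom with commutes' := fun a => RingHom.congr_fun hcomm a }, AlgHom.ext fun t => ?_⟩
  exact AlgHom.congr_fun hχ t

end Groth.Agent.AdicFS4
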