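import Groth.Prelude.Def_CAlgX
import Groth.Prelude.Def_Exal
import Mathlib

/-!
# Adic formal smoothness of quotients and splitting of the conormal map
-/

set_option linter.style.haveILetI false

open TensorProduct

universe u

namespace Groth.Agent.AdicFS4

attribute [local instance] Exal.opModule Exal.isCentralScalar_opModule

variable {A B : Type u} [CommRing A] [CommRing B] [Algebra A B]

/-- Derivations into modules killed by a power of `I` lift along surjections. -/
theorem exists_derivation_lift {I : Ideal B} (hB : CAlgX.IsAdicFormallySmooth A B I) (N : ℕ)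
    {M' M'' : Type u} [AddCommGroup M'] [Module B M'] [Module A M'] [IsScalarTower A B M']
    [AddCommGroup M''] [Module B M''] [Module A M''] [IsScalarTower A B M'']
    (hM' : ∀ x ∈ I ^ N, ∀ m : M', x • m = 0)
    (p : M' →ₗ[B] M'') (hp : Function.Surjective p) (D : Derivation A B M'') :
    ∃ D' : Derivation A B M', ∀ b, p (D' b) = D b := by
  let 𝔎 : Ideal (TrivSqZeroExt B M') :=
    { carrier := {x | x.fst ∈ I ^ N ∧ x.snd = 0}
      add_mem' := fun {a b} ha hb => ⟨by rw [TrivSqZeroExt.fst_add]; exact add_mem ha.1 hb.1,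
        by rw [TrivSqZeroExt.snd_add, ha.2, hb.2, add_zero]⟩
      zero_mem' := ⟨by simp, rfl⟩
      smul_mem' := fun c x hx => ⟨by rw [smul_eq_mul, TrivSqZeroExt.fst_mul]; exact Ideal.mul_mem_left _ _ hx.1,
        by rw [smul_eq_mul, TrivSqZeroExt.snd_mul, hx.2, op_smul_eq_smul, smul_zero, zero_add, hM' _ hx.1]⟩ }
  let E := TrivSqZeroExt B M' ⧸ 𝔎
  let q : TrivSqZeroExt B M' →+* E := Ideal.Quotient.mk 𝔎
  let 𝔍 : Ideal (TrivSqZeroExt B M') :=
    { carrier := {x | x.fst ∈ I ^ N ∧ p x.snd = 0}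
      add_mem' := fun {a b} ha hb => ⟨by rw [TrivSqZeroExt.fst_add]; exact add_mem ha.1 hb.1,
        by rw [TrivSqZeroExt.snd_add, map_add, ha.2, hb.2, add_zero]⟩
      zero_mem' := ⟨by simp, by simp⟩
      smul_mem' := fun c x hx => ⟨by rw [smul_eq_mul, TrivSqZeroExt.fst_mul]; exact Ideal.mul_mem_left _ _ hx.1,
        by rw [smul_eq_mul, TrivSqZeroExt.snd_mul, op_smul_eq_smul, hM' _ hx.1, add_zero, map_smul, hx.2, smul_zero]⟩ }
  let J : Ideal E := 𝔍.map q
  have hJ : J ^ 2 = ⊥ := by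
    rw [pow_two, ← Ideal.map_mul, Ideal.map_eq_bot_iff_le_ker, Ideal.mk_ker, Ideal.mul_le]
    intro x hx y hy
    refine ⟨?_, ?_⟩
    · rw [TrivSqZeroExt.fst_mul]; exact Ideal.mul_mem_left _ _ hy.1
    · rw [TrivSqZeroExt.snd_mul, op_smul_eq_smul, hM' _ hx.1, hM' _ hy.1, add_zero]
  let m : B → M' := fun b => Function.surjInv hp (D b)
  have hm : ∀ b, p (m b) = D b := fun b => Function.surjInv_eq hp _
  let π : B → E ⧸ J := fun b => Ideal.Quotient.mk J (q (TrivSqZeroExt.inl b + TrivSqZeroExt.inr (m b)))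
  have hπ : ∀ (b : B) (x : TrivSqZeroExt B M'), x.fst = b → p x.snd = D b →
      π b = Ideal.Quotient.mk J (q x) := fun b x h1 h2 => by
    refine Ideal.Quotient.eq.2 ?_
    rw [← map_sub]
    refine Ideal.mem_map_of_mem q (⟨?_, ?_⟩ : _ ∈ I ^ N ∧ _)
    · simp [h1]
    · simp [h2, hm]
  let ψ : B →ₐ[A] E ⧸ J :=
    { toFun := π
      map_one' := (hπ 1 1 (by simp) (by simp)).trans (by rw [map_one, map_one])
      map_mul' := fun a b => (hπ (a * b) ((TrivSqZeroExt.inl a + TrivSqZeroExt.inr (m a)) *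
          (TrivSqZeroExt.inl b + TrivSqZeroExt.inr (m b))) (by simp) (by
            simp [hm, TrivSqZeroExt.snd_mul, add_comm])).trans (by rw [map_mul, map_mul])
      map_zero' := (hπ 0 0 (by simp) (by simp)).trans (by rw [map_zero, map_zero])
      map_add' := fun a b => (hπ (a + b) ((TrivSqZeroExt.inl a + TrivSqZeroExt.inr (m a)) +
          (TrivSqZeroExt.inl b + TrivSqZeroExt.inr (m b))) (by simp) (by simp [hm])).trans (by rw [map_add, map_add])
      commutes' := fun a => hπ (algebraMap A B a) (algebraMap A (TrivSqZeroExt B M') a)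
        (by simp [TrivSqZeroExt.algebraMap_eq_inl']) (by simp [TrivSqZeroExt.algebraMap_eq_inl']) }
  obtain ⟨χ, hχ⟩ := hB E J hJ ψ ⟨N + N, fun x hx => by
    rw [pow_add] at hx
    refine Submodule.mul_induction_on hx (fun a ha b hb => ?_) fun a b ha hb => by rw [map_add, ha, hb, add_zero]
    show π (a * b) = 0
    rw [hπ (a * b) (TrivSqZeroExt.inl (a * b)) (by simp) ?_]
    · rw [Ideal.Quotient.eq_zero_iff_mem]
      exact Ideal.mem_map_of_mem q (⟨by simpa using Ideal.mul_mem_left _ a hb, by simp⟩ : _ ∈ I ^ N ∧ _)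
    · obtain ⟨t, ht⟩ := hp (D a)
      obtain ⟨t', ht'⟩ := hp (D b)
      rw [TrivSqZeroExt.snd_inl, map_zero, D.leibniz, ← ht, ← ht', ← map_smul, ← map_smul, hM' a ha, hM' b hb,
        map_zero, add_zero]⟩
  let snd : E → M' := fun e => Quotient.liftOn' e TrivSqZeroExt.snd fun x y h => by
    have h1 : x - y ∈ 𝔎 := (Submodule.quotientRel_def _).1 h
    have h2 := h1.2
    rwa [TrivSqZeroExt.snd_sub, sub_eq_zero] at h2
  have hs : ∀ x, snd (q x) = x.snd := fun x => rfl
  have hc : ∀ b x, q x = χ b → x.fst - b ∈ I ^ N ∧ p x.snd = D b := by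
    intro b x hx
    have h1 : Ideal.Quotient.mk J (q x) = π b := by rw [hx]; exact AlgHom.congr_fun hχ b
    have h2 := Ideal.Quotient.eq.1 h1
    rw [← map_sub, Ideal.mem_map_iff_of_surjective _ Ideal.Quotient.mk_surjective] at h2
    obtain ⟨z, hz, hz'⟩ := h2
    have h3 : _ ∈ 𝔎 := Ideal.Quotient.eq.1 hz'
    have h4 := h3.1
    have h5 := h3.2
    simp only [TrivSqZeroExt.fst_sub, TrivSqZeroExt.fst_add, TrivSqZeroExt.fst_inl, TrivSqZeroExt.fst_inr, add_zero] at h4
    simp only [TrivSqZeroExt.snd_sub, TrivSqZeroExt.snd_add, TrivSqZeroExt.snd_inl, TrivSqZeroExt.snd_inr, zero_add,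
      sub_eq_zero] at h5
    refine ⟨by simpa using sub_mem hz.1 h4, ?_⟩
    have h6 := hz.2
    rw [h5, map_sub, hm, sub_eq_zero] at h6
    exact h6
  have key : ∀ b, ∃ x, q x = χ b := fun b => Ideal.Quotient.mk_surjective _
  choose c hcc using key
  have hcong : ∀ (b : B) (t : M'), (c b).fst • t = b • t := fun b t => by
    rw [← sub_eq_zero, ← sub_smul]
    exact hM' _ (hc b _ (hcc b)).1 t
  have hval : ∀ b x, q x = χ b → (c b).snd = x.snd := fun b x hx => by
    rw [← hs, hcc, ← hx, hs]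
  refine ⟨Derivation.mk'
    { toFun := fun b => (c b).snd
      map_add' := fun a b => (hval (a + b) (c a + c b) (by rw [map_add, map_add, hcc, hcc])).trans (by simp)
      map_smul' := fun r b => (hval (r • b) (r • c b) (by
        show Ideal.Quotient.mkₐ A 𝔎 (r • c b) = χ (r • b)
        rw [map_smul, map_smul]
        exact congrArg _ (hcc b))).trans (by simp) }
    fun a b => ?_, fun b => (hc b _ (hcc b)).2⟩
  show (c (a * b)).snd = a • (c b).snd + b • (c a).snd
  rw [hval (a * b) (c a * c b) (by rw [map_mul, map_mul, hcc, hcc]), TrivSqZeroExt.snd_mul, op_smul_eq_smul,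
    hcong, hcong]

section quotient

variable {C : Type u} [CommRing C] [Algebra A C] [Algebra B C] [IsScalarTower A B C]

/-- A derivation splitting the conormal map modulo `Q`. -/
def HasSplit (A B C : Type u) [CommRing A] [CommRing B] [CommRing C] [Algebra A B] [Algebra B C]
    (Q : Ideal C) : Prop :=
  ∃ D : Derivation A B ((RingHom.ker (algebraMap B C)).Cotangent ⧸
      (Q.comap (algebraMap B C) • ⊤ : Submodule B (RingHom.ker (algebraMap B C)).Cotangent)),
    ∀ x : RingHom.ker (algebraMap B C), D x = Submodule.Quotient.mk (Ideal.toCotangent _ x)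

theorem isAdicFormallySmooth_of_hasSplit (hsurj : Function.Surjective (algebraMap B C)) {I : Ideal B}
    (hB : CAlgX.IsAdicFormallySmooth A B I) {Q : Ideal C} {n₀ m : ℕ}
    (hQ : I.map (algebraMap B C) ^ n₀ ≤ Q) (hQ' : Q ^ m ≤ I.map (algebraMap B C)) (h : HasSplit A B C Q) :
    CAlgX.IsAdicFormallySmooth A C (I.map (algebraMap B C)) := by
  obtain ⟨D₀, hD₀⟩ := h
  intro E _ _ M hM ψ hψ
  obtain ⟨n, hn⟩ := hψ
  let N := n + n₀
  set K := RingHom.ker (algebraMap B C) with hK
  let Q' := Q.comap (algebraMap B C)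
  let JN : Ideal B := I ^ N ⊔ K
  have hKQ : K ≤ Q' := fun x hx => by
    show algebraMap B C x ∈ Q
    rw [show algebraMap B C x = 0 from hx]; exact zero_mem _
  have hJQ : JN ≤ Q' := sup_le (Ideal.map_le_iff_le_comap.1 (by
    rw [Ideal.map_pow]; exact (Ideal.pow_le_pow_right (Nat.le_add_left n₀ n)).trans hQ)) hKQ
  let S : Submodule B K.Cotangent := JN • ⊤
  let p : (K.Cotangent ⧸ S) →ₗ[B] K.Cotangent ⧸ (Q' • ⊤ : Submodule B K.Cotangent) :=
    Submodule.factor (Submodule.smul_mono hJQ le_rfl)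
  have hS : ∀ x ∈ JN, ∀ t : K.Cotangent ⧸ S, x • t = 0 := fun x hx t => by
    obtain ⟨t, rfl⟩ := Submodule.Quotient.mk_surjective _ t
    rw [← Submodule.Quotient.mk_smul, Submodule.Quotient.mk_eq_zero]
    exact Submodule.smul_mem_smul hx trivial
  obtain ⟨D₁, hD₁⟩ := exists_derivation_lift hB N (fun x hx t => hS x (Ideal.mem_sup_left hx) t) p
    (fun t => by
      obtain ⟨t, rfl⟩ := Submodule.Quotient.mk_surjective _ t
      exact ⟨Submodule.Quotient.mk t, rfl⟩) D₀
  let l : K →ₗ[B] K.Cotangent ⧸ S :=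
    { toFun := fun x => D₁ x
      map_add' := fun x y => by simp
      map_smul' := fun b x => by
        show D₁ (b * (x : B)) = b • D₁ x
        rw [D₁.leibniz, hS (x : B) (Ideal.mem_sup_right x.2), add_zero] }
  let l' : K.Cotangent →ₗ[B] K.Cotangent ⧸ S := Submodule.liftQ _ l (by
    rw [Submodule.smul_le]
    intro r hr x _
    show l (r • x) = 0
    rw [map_smul]
    exact hS r (Ideal.mem_sup_right hr) _)
  let φ : (K.Cotangent ⧸ S) →ₗ[B] K.Cotangent ⧸ S := Submodule.liftQ S l' (by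
    rw [Submodule.smul_le]
    intro r hr x _
    show l' (r • x) = 0
    rw [map_smul]
    exact hS r hr _)
  have hφ : ∀ x : K, φ (Submodule.Quotient.mk (K.toCotangent x)) = D₁ x := fun x => rfl
  let ν : Module.End B (K.Cotangent ⧸ S) := φ - 1
  have hν : ∀ t, ν t ∈ Q' • (⊤ : Submodule B (K.Cotangent ⧸ S)) := fun t => by
    obtain ⟨t, rfl⟩ := Submodule.Quotient.mk_surjective _ t
    obtain ⟨x, rfl⟩ := K.toCotangent_surjective t
    show φ _ - Submodule.Quotient.mk _ ∈ _
    rw [hφ]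
    have h1 := hD₁ (x : B)
    rw [hD₀] at h1
    obtain ⟨y, hy⟩ := Submodule.Quotient.mk_surjective _ (D₁ (x : B))
    rw [← hy] at h1 ⊢
    change Submodule.Quotient.mk y = Submodule.Quotient.mk _ at h1
    rw [← Submodule.Quotient.mk_sub]
    have h2 := Submodule.mem_map_of_mem (f := S.mkQ) ((Submodule.Quotient.eq _).1 h1)
    rw [Submodule.map_smul'', Submodule.map_top, Submodule.range_mkQ] at h2
    exact h2
  have hνk : ∀ k t, (ν ^ k) t ∈ Q' ^ k • (⊤ : Submodule B (K.Cotangent ⧸ S)) := by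
    intro k
    induction k with
    | zero => simp
    | succ k ih =>
      intro t
      have h1 : ν t ∈ Q' • (⊤ : Submodule B (K.Cotangent ⧸ S)) := hν t
      have h2 := Submodule.mem_map_of_mem (f := ν ^ k) h1
      rw [Submodule.map_smul''] at h2
      have h3 : Submodule.map (ν ^ k) ⊤ ≤ Q' ^ k • (⊤ : Submodule B (K.Cotangent ⧸ S)) := by
        rintro _ ⟨s, -, rfl⟩; exact ih s
      rw [pow_succ (a := ν), Module.End.mul_apply, pow_succ' (a := Q'), Submodule.mul_smul]
      exact Submodule.smul_mono le_rfl h3 h2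
  have hnil : IsNilpotent ν := ⟨m * N, LinearMap.ext fun t => by
    have h1 : Q' ^ (m * N) ≤ JN := by
      rw [pow_mul]
      refine (Ideal.pow_right_mono (?_ : Q' ^ m ≤ I ⊔ K) N).trans ?_
      refine (Ideal.le_comap_pow (algebraMap B C) m).trans ?_
      refine (Ideal.comap_mono hQ').trans ?_
      · rw [Ideal.comap_map_of_surjective' _ hsurj]
      · intro x hx
        have h := Ideal.mem_map_of_mem (Ideal.Quotient.mk K) hx
        rw [Ideal.map_pow, Ideal.map_sup, Ideal.map_quotient_self, sup_bot_eq, ← Ideal.map_pow,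
          Ideal.mem_quotient_iff_mem_sup] at h
        exact h
    exact (Submodule.smul_induction_on (Submodule.smul_mono h1 le_rfl (hνk (m * N) t))
      (fun r hr s _ => hS r hr s) fun a b ha hb => by rw [LinearMap.zero_apply] at ha hb ⊢; rw [ha, hb, add_zero])⟩
  obtain ⟨v, hv⟩ := (show IsUnit φ by
    have := hnil.isUnit_add_one
    rwa [sub_add_cancel] at this)
  let D₂ : Derivation A B (K.Cotangent ⧸ S) := (↑v⁻¹ : Module.End B (K.Cotangent ⧸ S)).compDer D₁
  have hD₂ : ∀ x : K, D₂ x = Submodule.Quotient.mk (K.toCotangent x) := fun x => by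
    show (↑v⁻¹ : Module.End B (K.Cotangent ⧸ S)) (D₁ x) = _
    rw [← hφ, ← hv, ← Module.End.mul_apply, Units.inv_mul]
    rfl
  obtain ⟨u, hu⟩ := hB E M hM (ψ.comp (IsScalarTower.toAlgHom A B C)) ⟨n, fun x hx => hn _ (by
    rw [← Ideal.map_pow]; exact Ideal.mem_map_of_mem _ hx)⟩
  have hu' : ∀ b, Ideal.Quotient.mk M (u b) = ψ (algebraMap B C b) := fun b => AlgHom.congr_fun hu b
  have hMM : ∀ a ∈ M, ∀ b ∈ M, a * b = 0 := fun a ha b hb => by
    rw [← Ideal.mem_bot, ← hM, pow_two]; exact Ideal.mul_mem_mul ha hb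
  have huM : ∀ x ∈ K, u x ∈ M := fun x hx => by
    rw [← Ideal.Quotient.eq_zero_iff_mem, hu', show algebraMap B C x = 0 from hx, map_zero]
  have huJ : ∀ r ∈ JN, u r ∈ M := fun r hr => by
    obtain ⟨a, ha, b, hb, rfl⟩ := Submodule.mem_sup.1 hr
    rw [map_add]
    refine add_mem ?_ (huM b hb)
    rw [← Ideal.Quotient.eq_zero_iff_mem, hu']
    refine hn _ ?_
    rw [← Ideal.map_pow]
    exact Ideal.mem_map_of_mem _ (Ideal.pow_le_pow_right (Nat.le_add_right n n₀) ha)
  letI : Module B E := u.toRingHom.toAlgebra.toModule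
  have hsm : ∀ (b : B) (e : E), b • e = u b * e := fun _ _ => rfl
  let w : K →ₗ[B] E :=
    { toFun := fun x => u x
      map_add' := fun x y => map_add u _ _
      map_smul' := fun b x => map_mul u b x }
  let w' : K.Cotangent →ₗ[B] E := Submodule.liftQ _ w (by
    rw [Submodule.smul_le]
    intro r hr x _
    show w (r • x) = 0
    rw [map_smul, hsm]
    exact hMM _ (huM r hr) _ (huM _ x.2))
  have hw'M : ∀ t, w' t ∈ M := fun t => by
    obtain ⟨x, rfl⟩ := K.toCotangent_surjective t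
    exact huM _ x.2
  let w'' : (K.Cotangent ⧸ S) →ₗ[B] E := Submodule.liftQ S w' (by
    rw [Submodule.smul_le]
    intro r hr x _
    show w' (r • x) = 0
    rw [map_smul, hsm]
    exact hMM _ (huJ r hr) _ (hw'M x))
  have hw''M : ∀ t, w'' t ∈ M := fun t => by
    obtain ⟨t, rfl⟩ := Submodule.Quotient.mk_surjective _ t
    exact hw'M t
  let χ₀ : B →ₐ[A] E :=
    { toFun := fun b => u b - w'' (D₂ b)
      map_one' := by simp
      map_mul' := fun a b => by
        rw [D₂.leibniz, map_add, map_smul, map_smul, hsm, hsm, map_mul]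
        linear_combination -(hMM _ (hw''M (D₂ a)) _ (hw''M (D₂ b)))
      map_zero' := by simp
      map_add' := fun a b => by simp only [map_add]; ring
      commutes' := fun a => by simp }
  have hχ₀ : ∀ b, χ₀ b = u b - w'' (D₂ b) := fun _ => rfl
  have hker : RingHom.ker (IsScalarTower.toAlgHom A B C) ≤ RingHom.ker χ₀ := fun x hx => by
    show χ₀ x = 0
    rw [hχ₀, hD₂ ⟨x, hx⟩]
    show u x - u x = 0
    exact sub_self _
  refine ⟨AlgHom.liftOfSurjective (IsScalarTower.toAlgHom A B C) hsurj χ₀ hker, AlgHom.ext fun c => ?_⟩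
  obtain ⟨b, rfl⟩ := hsurj c
  show Ideal.Quotient.mk M (AlgHom.liftOfSurjective (IsScalarTower.toAlgHom A B C) hsurj χ₀ hker
    (IsScalarTower.toAlgHom A B C b)) = _
  rw [AlgHom.liftOfSurjective_apply, hχ₀, map_sub, hu', Ideal.Quotient.eq_zero_iff_mem.2 (hw''M _), sub_zero]

theorem hasSplit_of_isAdicFormallySmooth [IsNoetherianRing B] (hsurj : Function.Surjective (algebraMap B C))
    {I : Ideal B} (hC : CAlgX.IsAdicFormallySmooth A C (I.map (algebraMap B C))) {Q : Ideal C} {n₀ : ℕ}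
    (hQ : I.map (algebraMap B C) ^ n₀ ≤ Q) : HasSplit A B C Q := by
  set K := RingHom.ker (algebraMap B C) with hK
  let Q' := Q.comap (algebraMap B C)
  have hKQ : K ≤ Q' := fun x hx => by
    show algebraMap B C x ∈ Q
    rw [show algebraMap B C x = 0 from hx]; exact zero_mem _
  obtain ⟨k, hk⟩ := Ideal.exists_pow_inf_eq_pow_smul I (K : Submodule B B)
  let N := k + n₀
  let K₀ : Ideal B := Q' * K ⊔ I ^ N
  have hzero : ∀ x : K, (x : B) ∈ K₀ →
      (Submodule.Quotient.mk (K.toCotangent x) : K.Cotangent ⧸ (Q' • ⊤ : Submodule B K.Cotangent)) = 0 := by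
    intro x hx
    obtain ⟨a, ha, b, hb, hab⟩ := Submodule.mem_sup.1 hx
    have hbK : b ∈ K := by
      have : b = (x : B) - a := by rw [← hab]; ring
      rw [this]; exact sub_mem x.2 (Ideal.mul_le_right ha)
    have hb' : b ∈ Q' * K := by
      have h1 : b ∈ I ^ N • (⊤ : Submodule B B) ⊓ (K : Submodule B B) :=
        ⟨by simpa using hb, hbK⟩
      rw [hk N (Nat.le_add_right _ _)] at h1
      refine Submodule.smul_induction_on h1 (fun r hr s hs => ?_) fun _ _ => add_mem
      refine Ideal.mul_mem_mul ?_ hs.2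
      rw [show N - k = n₀ from Nat.add_sub_cancel_left k n₀] at hr
      exact (Ideal.map_le_iff_le_comap.1 (by rw [Ideal.map_pow]; exact hQ)) hr
    have hx' : (x : B) ∈ Q' * K := hab ▸ add_mem ha hb'
    rw [Submodule.Quotient.mk_eq_zero]
    have key : ∀ z ∈ Q' * K, ∃ hz : z ∈ K, K.toCotangent ⟨z, hz⟩ ∈ (Q' • ⊤ : Submodule B K.Cotangent) := by
      intro z hz
      refine Submodule.mul_induction_on hz (fun r hr s hs => ⟨K.mul_mem_left r hs, ?_⟩) ?_
      · show K.toCotangent (r • ⟨s, hs⟩) ∈ _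
        rw [map_smul]
        exact Submodule.smul_mem_smul hr trivial
      · rintro a b ⟨ha, ha'⟩ ⟨hb, hb'⟩
        refine ⟨add_mem ha hb, ?_⟩
        show K.toCotangent (⟨a, ha⟩ + ⟨b, hb⟩) ∈ _
        rw [map_add]
        exact add_mem ha' hb'
    exact (key _ hx').2
  let E := B ⧸ K₀
  let M : Ideal E := (K ⊔ I ^ N).map (Ideal.Quotient.mk K₀)
  have hM : M ^ 2 = ⊥ := by
    rw [pow_two, ← Ideal.map_mul, Ideal.map_eq_bot_iff_le_ker, Ideal.mk_ker, Ideal.sup_mul, Ideal.mul_sup]
    exact sup_le (sup_le (le_sup_of_le_left (Ideal.mul_mono_left hKQ)) (le_sup_of_le_right Ideal.mul_le_right))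
      (le_sup_of_le_right Ideal.mul_le_left)
  let π : B →ₐ[A] C := IsScalarTower.toAlgHom A B C
  let ψ : C →ₐ[A] E ⧸ M := AlgHom.liftOfSurjective π hsurj
    ((Ideal.Quotient.mkₐ A M).comp (Ideal.Quotient.mkₐ A K₀)) fun x hx => by
      show Ideal.Quotient.mk M (Ideal.Quotient.mk K₀ x) = 0
      exact Ideal.Quotient.eq_zero_iff_mem.2 (Ideal.mem_map_of_mem _ (Ideal.mem_sup_left hx))
  have hψ : ∀ b, ψ (π b) = Ideal.Quotient.mk M (Ideal.Quotient.mk K₀ b) := fun b => by
    simp [ψ]; rfl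
  obtain ⟨χ, hχ⟩ := hC E M hM ψ ⟨N, fun y hy => by
    rw [← Ideal.map_pow, Ideal.mem_map_iff_of_surjective _ hsurj] at hy
    obtain ⟨x, hx, rfl⟩ := hy
    rw [show algebraMap B C x = π x from rfl, hψ]
    exact Ideal.Quotient.eq_zero_iff_mem.2 (Ideal.mem_map_of_mem _ (Ideal.mem_sup_right hx))⟩
  have key : ∀ b, ∃ x : K, Ideal.Quotient.mk K₀ b - χ (π b) = Ideal.Quotient.mk K₀ x := fun b => by
    have h1 : Ideal.Quotient.mk K₀ b - χ (π b) ∈ M := by
      rw [← Ideal.Quotient.eq_zero_iff_mem, map_sub, sub_eq_zero, ← hψ]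
      exact (AlgHom.congr_fun hχ _).symm
    obtain ⟨z, hz, hz'⟩ := (Ideal.mem_map_iff_of_surjective _ Ideal.Quotient.mk_surjective).1 h1
    obtain ⟨x, hx, y, hy, rfl⟩ := Submodule.mem_sup.1 hz
    refine ⟨⟨x, hx⟩, ?_⟩
    rw [← hz', map_add, Ideal.Quotient.eq_zero_iff_mem.2 (Ideal.mem_sup_right hy), add_zero]
  choose d hd using key
  have huniq : ∀ (b : B) (x : K), Ideal.Quotient.mk K₀ b - χ (π b) = Ideal.Quotient.mk K₀ x →
      (Submodule.Quotient.mk (K.toCotangent (d b)) : K.Cotangent ⧸ (Q' • ⊤ : Submodule B K.Cotangent)) =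
        Submodule.Quotient.mk (K.toCotangent x) := fun b x hx => by
    rw [← sub_eq_zero, ← Submodule.Quotient.mk_sub, ← map_sub]
    refine hzero _ ?_
    rw [← Ideal.Quotient.eq_zero_iff_mem, AddSubgroupClass.coe_sub, map_sub, ← hd, ← hx, sub_self]
  refine ⟨Derivation.mk'
    { toFun := fun b => Submodule.Quotient.mk (K.toCotangent (d b))
      map_add' := fun a b => (huniq (a + b) (d a + d b) (by
        rw [Submodule.coe_add, map_add, map_add, map_add, map_add, ← hd, ← hd]; ring)).trans (by simp)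
      map_smul' := fun r b => (huniq (r • b) (algebraMap A B r • d b) (by
        rw [Submodule.coe_smul, smul_eq_mul, map_mul, ← hd, Algebra.smul_def, map_mul, map_mul, map_mul,
          AlgHom.commutes, AlgHom.commutes, mul_sub]
        rfl)).trans (by
          rw [map_smul, Submodule.Quotient.mk_smul, RingHom.id_apply, algebraMap_smul]) }
    fun a b => ?_, fun x => ?_⟩
  · refine (huniq (a * b) (a • d b + b • d a) ?_).trans ?_
    · have h0 : Ideal.Quotient.mk K₀ (d a) * Ideal.Quotient.mk K₀ (d b) = 0 := by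
        rw [← Ideal.mem_bot, ← hM, pow_two]
        exact Ideal.mul_mem_mul (Ideal.mem_map_of_mem _ (Ideal.mem_sup_left (d a).2))
          (Ideal.mem_map_of_mem _ (Ideal.mem_sup_left (d b).2))
      simp only [Submodule.coe_add, Submodule.coe_smul, smul_eq_mul, map_add, map_mul, ← hd] at h0 ⊢
      linear_combination -h0
    · rw [map_add, map_smul, map_smul, Submodule.Quotient.mk_add, Submodule.Quotient.mk_smul,
        Submodule.Quotient.mk_smul]
      rfl
  · refine huniq x x ?_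
    rw [show π (x : B) = 0 from x.2, map_zero, sub_zero]

theorem hasSplit_iff_exists_leftInverse (hsurj : Function.Surjective (algebraMap B C)) (Q : Ideal C) :
    HasSplit A B C Q ↔ ∃ g : (C ⧸ Q) ⊗[B] (C ⊗[B] Ω[B⁄A]) →ₗ[C ⧸ Q]
        (C ⧸ Q) ⊗[B] (RingHom.ker (algebraMap B C)).Cotangent,
      g ∘ₗ LinearMap.baseChange (C ⧸ Q) (KaehlerDifferential.kerCotangentToTensor A B C) = LinearMap.id := by
  set K := RingHom.ker (algebraMap B C) with hK
  let Q' := Q.comap (algebraMap B C)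
  have hker : ∀ r, algebraMap B (C ⧸ Q) r = Ideal.Quotient.mk Q (algebraMap B C r) := fun r => rfl
  constructor
  · rintro ⟨D, hD⟩
    let ι₀ : K.Cotangent →ₗ[B] (C ⧸ Q) ⊗[B] K.Cotangent := TensorProduct.mk B (C ⧸ Q) K.Cotangent 1
    let ι : (K.Cotangent ⧸ (Q' • ⊤ : Submodule B K.Cotangent)) →ₗ[B] (C ⧸ Q) ⊗[B] K.Cotangent :=
      Submodule.liftQ _ ι₀ (by
        rw [Submodule.smul_le]
        intro r hr t _
        show (1 : C ⧸ Q) ⊗ₜ[B] (r • t) = 0
        rw [← smul_tmul, ← Algebra.algebraMap_eq_smul_one, hker, Ideal.Quotient.eq_zero_iff_mem.2 (show algebraMap B C r ∈ Q from hr), zero_tmul])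
    let h₀ : Ω[B⁄A] →ₗ[B] (C ⧸ Q) ⊗[B] K.Cotangent := ι.comp D.liftKaehlerDifferential
    let h₁ : C ⊗[B] Ω[B⁄A] →ₗ[B] (C ⧸ Q) ⊗[B] K.Cotangent := (LinearMap.liftBaseChange C h₀).restrictScalars B
    refine ⟨LinearMap.liftBaseChange (C ⧸ Q) h₁, ?_⟩
    refine TensorProduct.AlgebraTensorModule.ext fun q t => ?_
    obtain ⟨x, rfl⟩ := K.toCotangent_surjective t
    rw [LinearMap.comp_apply, LinearMap.baseChange_tmul, LinearMap.liftBaseChange_tmul, LinearMap.id_apply,
      KaehlerDifferential.kerCotangentToTensor_toCotangent]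
    show q • ((1 : C) • ι (D.liftKaehlerDifferential (KaehlerDifferential.D A B x))) = _
    rw [one_smul, Derivation.liftKaehlerDifferential_comp_D, hD]
    show q • ((1 : C ⧸ Q) ⊗ₜ[B] K.toCotangent x) = _
    rw [smul_tmul', smul_eq_mul, mul_one]
  · rintro ⟨g, hg⟩
    have hs : Function.Surjective (Algebra.linearMap B (C ⧸ Q)) :=
      Ideal.Quotient.mk_surjective.comp hsurj
    let act : B →ₗ[B] (K.Cotangent →ₗ[B] K.Cotangent ⧸ (Q' • ⊤ : Submodule B K.Cotangent)) :=
      LinearMap.toSpanSingleton B _ (Submodule.mkQ _)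
    let e : (C ⧸ Q) →ₗ[B] (K.Cotangent →ₗ[B] K.Cotangent ⧸ (Q' • ⊤ : Submodule B K.Cotangent)) :=
      (Submodule.liftQ (LinearMap.ker (Algebra.linearMap B (C ⧸ Q))) act (fun r hr => LinearMap.ext fun t => by
        show (r • (Q' • ⊤ : Submodule B K.Cotangent).mkQ) t = 0
        rw [LinearMap.smul_apply, Submodule.mkQ_apply]
        rw [← Submodule.Quotient.mk_smul, Submodule.Quotient.mk_eq_zero]
        exact Submodule.smul_mem_smul (show r ∈ Q' from (Ideal.Quotient.eq_zero_iff_mem (I := Q)).1 hr) trivial)).comp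
        ((Algebra.linearMap B (C ⧸ Q)).quotKerEquivOfSurjective hs).symm.toLinearMap
    have he : ∀ t, e 1 t = Submodule.Quotient.mk t := fun t => by
      have h1 : ((Algebra.linearMap B (C ⧸ Q)).quotKerEquivOfSurjective hs).symm 1 = Submodule.Quotient.mk 1 := by
        rw [LinearEquiv.symm_apply_eq]
        exact (map_one (algebraMap B (C ⧸ Q))).symm
      simp only [e, act, LinearMap.comp_apply, LinearEquiv.coe_coe, h1]
      show ((1 : B) • (Q' • ⊤ : Submodule B K.Cotangent).mkQ) t = _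
      rw [one_smul]; rfl
    let h : Ω[B⁄A] →ₗ[B] K.Cotangent ⧸ (Q' • ⊤ : Submodule B K.Cotangent) :=
      (TensorProduct.lift e).comp ((g.restrictScalars B).comp
        ((TensorProduct.mk B (C ⧸ Q) (C ⊗[B] Ω[B⁄A]) 1).comp (TensorProduct.mk B C Ω[B⁄A] 1)))
    refine ⟨h.compDer (KaehlerDifferential.D A B), fun x => ?_⟩
    show TensorProduct.lift e (g ((1 : C ⧸ Q) ⊗ₜ[B] ((1 : C) ⊗ₜ[B] KaehlerDifferential.D A B x))) = _
    rw [← KaehlerDifferential.kerCotangentToTensor_toCotangent, ← LinearMap.baseChange_tmul, ← LinearMap.comp_apply g,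
      hg, LinearMap.id_apply, TensorProduct.lift.tmul, he]

end quotient

end Groth.Agent.AdicFS4
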