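import Groth.Agent.PBasisLib.Field
import Groth.Agent.AdicFS4.Field

/-!
# Differentials relative to a directed family of subfields with intersection `k^p`
-/

set_option linter.style.haveILetI false

open TensorProduct EGA41 IsLocalRing

universe u

namespace Groth.Agent.AdicFS4

/-- Linear independence over a subset. -/
def IndepOn {K : Type u} [CommRing K] (S : Set K) {σ : Type u} (s : Finset σ) (v : σ → K) : Prop :=
  ∀ c : σ → K, (∀ i ∈ s, c i ∈ S) → ∑ i ∈ s, c i * v i = 0 → ∀ i ∈ s, c i = 0

theorem exists_indepOn {K : Type u} [Field K] {ι : Type u} [Preorder ι] [IsDirected ι (fun a b => a ≤ b)]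
    (R : ι → Subfield K) (hR : Antitone R) (F : Set K) (hF : ∀ y, (∀ α, y ∈ R α) → y ∈ F)
    (hF' : ∀ y ∈ F, -y ∈ F) (h1 : (1 : K) ∈ F)
    {σ : Type u} (v : σ → K) (s : Finset σ) (hv : IndepOn F s v) (α₀ : ι) :
    ∃ α, α₀ ≤ α ∧ IndepOn (R α : Set K) s v := by
  classical
  induction s using Finset.induction generalizing α₀ with
  | empty => exact ⟨α₀, le_rfl, fun c _ _ i hi => absurd hi (Finset.notMem_empty i)⟩
  | insert a s ha ih =>
    have hzero : (0 : K) ∈ F := hF 0 fun α => zero_mem _
    have hs : IndepOn F s v := fun c hc hsum i hi => by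
      have := hv (fun j => if j = a then 0 else c j) (fun j hj => by
          show (if j = a then 0 else c j) ∈ F
          split_ifs with h
          · exact hzero
          · exact hc j ((Finset.mem_insert.1 hj).resolve_left h)) (by
          rw [Finset.sum_insert ha, if_pos rfl, zero_mul, zero_add, ← hsum]
          exact Finset.sum_congr rfl fun j hj => by rw [if_neg (ne_of_mem_of_not_mem hj ha)]) i
        (Finset.mem_insert_of_mem hi)
      simpa [ne_of_mem_of_not_mem hi ha] using this
    obtain ⟨α₁, hα₁, hind⟩ := ih hs α₀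
    by_contra hcon
    simp only [not_exists, not_and] at hcon
    have hdep : ∀ α, α₁ ≤ α → ∃ e : σ → K, (∀ i ∈ s, e i ∈ R α) ∧ v a + ∑ i ∈ s, e i * v i = 0 := by
      intro α hα
      have h := hcon α (hα₁.trans hα)
      rw [IndepOn] at h
      push_neg at h
      obtain ⟨c, hc, hsum, i, hi, hci⟩ := h
      have hca : c a ≠ 0 := fun h0 => hci (by
        rw [Finset.sum_insert ha, h0, zero_mul, zero_add] at hsum
        rcases Finset.mem_insert.1 hi with rfl | hi'
        · exact h0
        · exact hind c (fun j hj => hR hα (hc j (Finset.mem_insert_of_mem hj))) hsum i hi')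
      refine ⟨fun j => (c a)⁻¹ * c j, fun j hj =>
        mul_mem (inv_mem (hc a (Finset.mem_insert_self a s))) (hc j (Finset.mem_insert_of_mem hj)), ?_⟩
      rw [Finset.sum_insert ha] at hsum
      calc v a + ∑ j ∈ s, (c a)⁻¹ * c j * v j = (c a)⁻¹ * (c a * v a + ∑ j ∈ s, c j * v j) := by
            rw [mul_add, Finset.mul_sum, ← mul_assoc, inv_mul_cancel₀ hca, one_mul]
            simp only [mul_assoc]
        _ = 0 := by rw [hsum, mul_zero]
    obtain ⟨e, he, hsum⟩ := hdep α₁ le_rfl
    have heF : ∀ i ∈ s, e i ∈ F := fun i hi => hF _ fun β => by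
      obtain ⟨γ, hγ₁, hγ₂⟩ := exists_ge_ge α₁ β
      obtain ⟨e', he', hsum'⟩ := hdep γ hγ₁
      have := hind (fun j => e j - e' j) (fun j hj => sub_mem (he j hj) (hR hγ₁ (he' j hj))) (by
        simp only [sub_mul, Finset.sum_sub_distrib]
        linear_combination hsum - hsum') i hi
      rw [sub_eq_zero] at this
      rw [this]
      exact hR hγ₂ (he' i hi)
    have := hv (fun j => if j = a then 1 else e j) (fun j hj => by
        show (if j = a then 1 else e j) ∈ F
        split_ifs with h
        · exact h1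
        · exact heF j ((Finset.mem_insert.1 hj).resolve_left h)) (by
        rw [Finset.sum_insert ha, if_pos rfl, one_mul, ← hsum]
        congr 1
        exact Finset.sum_congr rfl fun j hj => by rw [if_neg (ne_of_mem_of_not_mem hj ha)]) a (Finset.mem_insert_self a s)
    simp at this

variable (p : ℕ) [Fact p.Prime] {k : Type u} [Field k] [CharP k p]

theorem mem_pPower_iff (P : Type u) [Field P] [Algebra P k] (y : k) :
    y ∈ pPowerSubalgebra p P k ↔ y ∈ PBasisLib.Fp p P (∅ : Set k) := by
  rw [PBasisLib.mem_Fp_iff, Algebra.adjoin_empty, Algebra.mem_bot]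
  exact ⟨fun h => ⟨⟨y, h⟩, rfl⟩, fun ⟨z, hz⟩ => hz ▸ z.2⟩

theorem toSubfield_Fp (P : Type u) [Field P] [Algebra P k] :
    (PBasisLib.Fp p P (∅ : Set k)).toSubfield = (algebraMap P k).fieldRange ⊔ (frobenius k p).fieldRange := by
  rw [PBasisLib.Fp, IntermediateField.adjoin_toSubfield, Set.union_empty, Subfield.closure_union]
  congr 1
  · rw [← RingHom.coe_fieldRange, Subfield.closure_eq]
  · rw [← Subfield.closure_eq (frobenius k p).fieldRange, RingHom.coe_fieldRange]
    rfl

theorem exists_free {ι : Type u} [Preorder ι] [IsDirected ι (fun a b => a ≤ b)] (kα : ι → Subfield k)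
    (hanti : Antitone kα) (hint : ⨅ α, (kα α ⊔ (frobenius k p).fieldRange) = (frobenius k p).fieldRange)
    (P : Type u) [Field P] [Algebra P k] {σ : Type u} [Fintype σ] (x : σ → k) (hx : PBasisLib.Free p P x) (α₀ : ι) :
    ∃ α, α₀ ≤ α ∧ PBasisLib.Free p (kα α) x := by
  classical
  haveI : Finite {e : σ →₀ ℕ // ∀ i, e i < p} :=
    Finite.of_injective (fun e i => (⟨e.1 i, e.2 i⟩ : Fin p)) fun a b h =>
      Subtype.ext (Finsupp.ext fun i => congrArg Fin.val (congrFun h i))
  haveI := Fintype.ofFinite {e : σ →₀ ℕ // ∀ i, e i < p}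
  let R : ι → Subfield k := fun α => kα α ⊔ (frobenius k p).fieldRange
  have hR : Antitone R := fun a b h => sup_le_sup_right (hanti h) _
  have hmem : ∀ y : k, (∀ α, y ∈ R α) → y ∈ (pPowerSubalgebra p P k : Set k) := fun y hy => by
    have h2 : y ∈ (frobenius k p).fieldRange := hint ▸ (Subfield.mem_iInf.2 hy)
    obtain ⟨z, rfl⟩ := h2
    exact Algebra.subset_adjoin ⟨z, rfl⟩
  have hli := (PBasisLib.isPIndependent_iff_free p P x).2 hx
  have hind : IndepOn (pPowerSubalgebra p P k : Set k) Finset.univ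
      (fun e : {e : σ →₀ ℕ // ∀ i, e i < p} => pMonomial x e.1) := fun c hc hsum i _ => by
    have := Fintype.linearIndependent_iff.1 hli (fun j => ⟨c j, hc j (Finset.mem_univ j)⟩) hsum i
    exact congrArg Subtype.val this
  obtain ⟨α, hα, h⟩ := exists_indepOn R hR _ hmem (fun y hy => neg_mem hy) (one_mem _) _ _ hind α₀
  refine ⟨α, hα, (PBasisLib.isPIndependent_iff_free p (kα α) x).1 (Fintype.linearIndependent_iff.2 fun g hg i => ?_)⟩
  refine Subtype.ext (h (fun j => (g j : k)) (fun j _ => ?_) hg i (Finset.mem_univ i))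
  have h2 : (g j : k) ∈ (PBasisLib.Fp p (kα α) (∅ : Set k)).toSubfield := (mem_pPower_iff p (kα α) _).1 (g j).2
  rw [toSubfield_Fp] at h2
  refine (sup_le_sup_right ?_ _ : _ ≤ R α) h2
  rintro _ ⟨z, rfl⟩
  exact z.2

theorem coeff_eq_zero {A K : Type u} [CommRing A] [CommRing K] [Algebra k A] [Algebra A K] [Algebra k K]
    [IsScalarTower k A K] {V : Type u} [AddCommGroup V] [Module k V] {σ : Type u} [Fintype σ] (v : σ → V)
    (hv : LinearIndependent k v) (c : σ → K)
    (h : ∑ b, c b • ((1 : K) ⊗ₜ[A] ((1 : A) ⊗ₜ[k] v b)) = 0) (b : σ) : c b = 0 := by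
  classical
  let bb := Module.Basis.span hv
  obtain ⟨l, hl⟩ := LinearMap.exists_extend (bb.constr k fun b' : σ => if b' = b then (1 : k) else 0)
  have hl' : ∀ b', l (v b') = if b' = b then 1 else 0 := fun b' => by
    have := LinearMap.congr_fun hl (bb b')
    rw [Module.Basis.constr_basis, LinearMap.comp_apply, Submodule.subtype_apply, Module.Basis.span_apply] at this
    exact this
  let L : K ⊗[A] (A ⊗[k] V) →ₗ[K] K :=
    LinearMap.liftBaseChange K (LinearMap.liftBaseChange A ((Algebra.linearMap k K).comp l))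
  have h2 := congrArg L h
  rw [map_sum, map_zero, Finset.sum_eq_single_of_mem b (Finset.mem_univ b) fun b' _ hne => by
    simp [L, hl', hne]] at h2
  simpa [L, hl'] using h2

theorem exists_basis_int : ∃ (T : Set k) (bas : Module.Basis T k (Ω[k⁄ℤ])),
    (∀ b, bas b = KaehlerDifferential.D ℤ k (b : k)) ∧
      ∀ (P : Type u) [Field P] [Algebra P k], (∀ x, ∃ n : ℕ, algebraMap P k x = n) →
        PBasisLib.Free p P (Subtype.val : T → k) := by
  let P := ULift.{u} (ZMod p)
  letI : Algebra P k := ((ZMod.castHom dvd_rfl k).comp (ULift.ringEquiv (R := ZMod p)).toRingHom).toAlgebra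
  have hnat : ∀ x : P, ∃ n : ℕ, algebraMap P k x = n := fun x => by
    obtain ⟨n, hn⟩ := ZMod.natCast_zmod_surjective (n := p) x.down
    refine ⟨n, ?_⟩
    show ZMod.castHom dvd_rfl k x.down = _
    rw [← hn, map_natCast]
  obtain ⟨T, -, -, hT⟩ := PBasisLib.exists_isPBasis p P (K := k) (Set.empty_subset (Set.univ : Set k))
    (fun t ht => absurd ht (Set.notMem_empty t)) (eq_top_iff.mpr fun y _ => PBasisLib.subset_Fp p P _ (Set.mem_univ y))
  have hkill : ∀ x, KaehlerDifferential.D ℤ k (algebraMap P k x) = 0 := fun x => by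
    obtain ⟨n, hn⟩ := hnat x
    rw [hn, Derivation.map_natCast]
  obtain ⟨DP, hDP⟩ := exists_derivation_of_kills (KaehlerDifferential.D ℤ k) hkill
  have hspan : Submodule.span k (Set.range fun b : T => KaehlerDifferential.D ℤ k (b : k)) = ⊤ := by
    rw [eq_top_iff, ← KaehlerDifferential.span_range_derivation ℤ k, Submodule.span_le]
    rintro _ ⟨y, rfl⟩
    have h1 := PBasisLib.derivation_mem_span p P (T := T) DP (y := y) (by
      rw [← Subtype.range_coe (s := T), (PBasisLib.isPGenerating_iff_Fp p P _).1 hT.2]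
      exact IntermediateField.mem_top)
    rw [hDP] at h1
    refine Submodule.span_mono ?_ h1
    rintro _ ⟨b, hb, rfl⟩
    exact ⟨⟨b, hb⟩, (hDP b).symm⟩
  have hliP := PBasisLib.linearIndependent_D hT
  have hli : LinearIndependent k fun b : T => KaehlerDifferential.D ℤ k (b : k) := by
    refine LinearIndependent.of_comp (KaehlerDifferential.map ℤ P k k) ?_
    have : (⇑(KaehlerDifferential.map ℤ P k k) ∘ fun b : T => KaehlerDifferential.D ℤ k (b : k)) =
        fun i : T => KaehlerDifferential.D P k (i : k) := funext fun b => KaehlerDifferential.map_D ℤ P k k (b : k)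
    rw [this]
    exact hliP
  refine ⟨T, Module.Basis.mk hli hspan.ge, fun b => Module.Basis.mk_apply _ _ b, fun Q _ _ hQ => ?_⟩
  intro a ha
  refine (PBasisLib.free_iff_linearIndependent_D p P (fun b : T => (b : k))).2 hliP a ?_
  have hle : (PBasisLib.Fp p Q ((Subtype.val : T → k) '' {b | b ≠ a})).toSubfield ≤
      (PBasisLib.Fp p P ((Subtype.val : T → k) '' {b | b ≠ a})).toSubfield := by
    rw [PBasisLib.Fp, IntermediateField.adjoin_toSubfield, Subfield.closure_le]
    rintro y (⟨x, rfl⟩ | hy)
    · obtain ⟨n, hn⟩ := hQ x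
      rw [hn]
      exact natCast_mem _ n
    · exact IntermediateField.subset_adjoin _ _ hy
  exact hle ha

theorem tmul_map {L : Type u} [CommRing L] [Algebra L k] {A K : Type u} [CommRing A] [CommRing K] [Algebra k A]
    [Algebra A K] [Algebra L A] [IsScalarTower L k A] (x : k) :
    ((KaehlerDifferential.map ℤ L A A).baseChange K) ((KaehlerDifferential.mapBaseChange ℤ k A).baseChange K
        ((1 : K) ⊗ₜ[A] ((1 : A) ⊗ₜ[k] KaehlerDifferential.D ℤ k x))) =
      (KaehlerDifferential.mapBaseChange L k A).baseChange K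
        ((1 : K) ⊗ₜ[A] ((1 : A) ⊗ₜ[k] KaehlerDifferential.D L k x)) := by
  simp [KaehlerDifferential.map_D]

theorem injective_lTensor_int_of_subfields {A : Type u} [CommRing A] [IsLocalRing A] [Algebra k A]
    {ι : Type u} [Preorder ι] [IsDirected ι (fun a b => a ≤ b)] (kα : ι → Subfield k)
    (hanti : Antitone kα) (hint : ⨅ α, (kα α ⊔ (frobenius k p).fieldRange) = (frobenius k p).fieldRange) (α₀ : ι)
    (h : ∀ α, α₀ ≤ α → Function.Injective ((KaehlerDifferential.mapBaseChange (kα α) k A).lTensor (ResidueField A))) :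
    Function.Injective ((KaehlerDifferential.mapBaseChange ℤ k A).lTensor (ResidueField A)) := by
  classical
  obtain ⟨T, bas, hbas, hfree⟩ := exists_basis_int p (k := k)
  let bK := (bas.baseChange A).baseChange (ResidueField A)
  have hbK : ∀ b, bK b = (1 : ResidueField A) ⊗ₜ[A] ((1 : A) ⊗ₜ[k] KaehlerDifferential.D ℤ k (b : k)) := fun b => by
    simp [bK, hbas]
  rw [injective_iff_map_eq_zero]
  intro z hz
  rw [← bK.linearCombination_repr z]
  suffices hc : bK.repr z = 0 by rw [hc, map_zero]
  obtain ⟨c, hc⟩ : ∃ c, bK.repr z = c := ⟨_, rfl⟩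
  have hzc : z = ∑ b : c.support, c b • ((1 : ResidueField A) ⊗ₜ[A] ((1 : A) ⊗ₜ[k] KaehlerDifferential.D ℤ k ((b : T) : k))) := by
    conv_lhs => rw [← bK.linearCombination_repr z, hc, Finsupp.linearCombination_apply, Finsupp.sum,
      ← Finset.sum_coe_sort]
    exact Finset.sum_congr rfl fun b _ => by rw [hbK]
  let P := ULift.{u} (ZMod p)
  letI : Algebra P k := ((ZMod.castHom dvd_rfl k).comp (ULift.ringEquiv (R := ZMod p)).toRingHom).toAlgebra
  have hnat : ∀ x : P, ∃ n : ℕ, algebraMap P k x = n := fun x => by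
    obtain ⟨n, hn⟩ := ZMod.natCast_zmod_surjective (n := p) x.down
    refine ⟨n, ?_⟩
    show ZMod.castHom dvd_rfl k x.down = _
    rw [← hn, map_natCast]
  have hfs : PBasisLib.Free p P (fun b : c.support => ((b : T) : k)) := fun a ha => by
    refine hfree P hnat (a : T) (PBasisLib.Fp_mono p P ?_ ha)
    rintro _ ⟨b, hb, rfl⟩
    exact ⟨(b : T), fun h => hb (Subtype.ext h), rfl⟩
  obtain ⟨α, hα, hfα⟩ := exists_free p kα hanti hint P _ hfs α₀
  have hlα := (PBasisLib.free_iff_linearIndependent_D p (kα α) _).1 hfα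
  have hw : ((KaehlerDifferential.mapBaseChange (kα α) k A).baseChange (ResidueField A))
      (∑ b : c.support, c b • ((1 : ResidueField A) ⊗ₜ[A] ((1 : A) ⊗ₜ[k] KaehlerDifferential.D (kα α) k ((b : T) : k)))) = 0 := by
    have h1 := congrArg ((KaehlerDifferential.map ℤ (kα α) A A).baseChange (ResidueField A))
      (show (KaehlerDifferential.mapBaseChange ℤ k A).baseChange (ResidueField A) z = 0 from hz)
    rw [map_zero, hzc, map_sum, map_sum] at h1
    rw [← h1, map_sum]
    refine Finset.sum_congr rfl fun b _ => ?_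
    simp only [map_smul, tmul_map]
  have hw0 := h α hα (hw.trans (map_zero _).symm)
  have hall := coeff_eq_zero (A := A) _ hlα (fun b : c.support => c b) hw0
  rw [hc]
  ext b
  by_cases hb : b ∈ c.support
  · exact hall ⟨b, hb⟩
  · simpa using hb

end Groth.Agent.AdicFS4
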